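/- Groups whose class sizes are `1`, `m`, `m * n` with `m`, `n` coprime: basic facts. -/
import Cfsg.Agent.ClassCoprime69.Basic
import Cfsg.Agent.TwoSizes69.Basic
import Cfsg.Agent.GroupBasics.Conjugates
import Cfsg.Agent.BlocksCharsC.PGroupCenter

set_option autoImplicit false

namespace CfsgLib.CaminaRankTwo69

open Subgroup CfsgLib.ClassCoprime69
open CfsgLib.TwoSizes69 (RElem Zr)
open scoped commutatorElement

variable {G : Type*} [Group G]

/-- The class sizes are `1`, `m`, `m * n`. -/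
structure Hyp (G : Type*) [Group G] (m n : ℕ) : Prop where
  hm : 1 < m
  hn : 1 < n
  cop : m.Coprime n
  sizes : ∀ x : G, cs x = 1 ∨ cs x = m ∨ cs x = m * n
  exM : ∃ x : G, cs x = m
  exMN : ∃ x : G, cs x = m * n

/-- Commuting is symmetric. -/
theorem comm_symm {g u : G} (h : g ∈ centralizer ({u} : Set G)) : u ∈ centralizer ({g} : Set G) :=
  mem_Cx_comm.mp h

theorem commute_of_mem {g u : G} (h : g ∈ centralizer ({u} : Set G)) : Commute g u := mem_Cx.mp h

theorem mem_of_commute {g u : G} (h : Commute g u) : g ∈ centralizer ({u} : Set G) := mem_Cx.mpr h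

/-- Conjugation moves centralizers. -/
theorem conj_mem_Cx_conj_iff {g c u : G} :
    g * c * g⁻¹ ∈ centralizer ({g * u * g⁻¹} : Set G) ↔ c ∈ centralizer ({u} : Set G) := by
  refine ⟨fun h => ?_, conj_mem_Cx_conj⟩
  have := conj_mem_Cx_conj (g := g⁻¹) h
  rwa [show g⁻¹ * (g * c * g⁻¹) * g⁻¹⁻¹ = c by group,
    show g⁻¹ * (g * u * g⁻¹) * g⁻¹⁻¹ = u by group] at this

theorem conj_mem_center_iff {g u : G} : g * u * g⁻¹ ∈ center G ↔ u ∈ center G := by
  refine ⟨fun h => ?_, fun h => (inferInstance : (center G).Normal).conj_mem u h g⟩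
  have := (inferInstance : (center G).Normal).conj_mem _ h g⁻¹
  rwa [show g⁻¹ * (g * u * g⁻¹) * g⁻¹⁻¹ = u by group] at this

variable [Finite G]

theorem eq_of_cs_eq {a b : G} (h : centralizer ({a} : Set G) ≤ centralizer ({b} : Set G))
    (hc : cs a = cs b) : centralizer ({a} : Set G) = centralizer ({b} : Set G) :=
  eq_of_le_of_cs_le h hc.le

/-- The order of a Sylow `r`-subgroup of `H`. -/
noncomputable def rp (r : ℕ) (H : Subgroup G) : ℕ := r ^ (Nat.card H).factorization r

section rp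

variable {r : ℕ} [Fact r.Prime]

theorem exists_rp_of_le {H U₀ : Subgroup G} (hU : IsPGroup r U₀) (hH : U₀ ≤ H) :
    ∃ U : Subgroup G, U₀ ≤ U ∧ U ≤ H ∧ IsPGroup r U ∧ Nat.card U = rp r H := by
  obtain ⟨P, hP⟩ := (hU.comap_of_injective H.subtype (Subgroup.subtype_injective _)).exists_le_sylow
  refine ⟨(P : Subgroup H).map H.subtype, fun x hx => ⟨⟨x, hH hx⟩, hP hx, rfl⟩, map_subtype_le _,
    P.isPGroup'.map _, ?_⟩
  rw [card_map_of_injective (Subgroup.subtype_injective _), P.card_eq_multiplicity, rp]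

theorem exists_rp (H : Subgroup G) :
    ∃ U : Subgroup G, U ≤ H ∧ IsPGroup r U ∧ Nat.card U = rp r H := by
  obtain ⟨U, -, h⟩ := exists_rp_of_le (r := r) (H := H) (U₀ := ⊥) IsPGroup.of_bot bot_le
  exact ⟨U, h⟩

theorem card_le_rp {H U : Subgroup G} (hU : IsPGroup r U) (hH : U ≤ H) : Nat.card U ≤ rp r H := by
  obtain ⟨V, hUV, -, -, hV⟩ := exists_rp_of_le hU hH
  exact hV ▸ card_le_of_le hUV

theorem sylow_card_eq_rp (S : Sylow r G) : Nat.card (S : Subgroup G) = rp r (⊤ : Subgroup G) := by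
  rw [rp, Subgroup.card_top]; exact S.card_eq_multiplicity

theorem rp_le_of_dvd {H K : Subgroup G} (h : Nat.card H ∣ Nat.card K) : rp r H ≤ rp r K :=
  Nat.pow_le_pow_right (Fact.out : r.Prime).pos
    (((Nat.factorization_le_iff_dvd Nat.card_pos.ne' Nat.card_pos.ne').mpr h) r)

omit [Fact r.Prime] in
theorem rp_eq_of_card {H K : Subgroup G} (h : Nat.card H = Nat.card K) : rp r H = rp r K := by
  rw [rp, rp, h]

omit [Fact r.Prime] in
theorem rp_Cx_dvd {x y : G} (h : cs x ∣ cs y) :
    Nat.card (centralizer ({y} : Set G)) ∣ Nat.card (centralizer ({x} : Set G)) := by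
  obtain ⟨k, hk⟩ := h
  refine ⟨k, Nat.eq_of_mul_eq_mul_right (cs_pos x) ?_⟩
  rw [mul_assoc, mul_comm k, ← hk]
  exact (Subgroup.card_mul_index _).trans (Subgroup.card_mul_index _).symm

/-- Class sizes differing by a factor prime to `r` give centralizers with equal `r`-parts. -/
theorem rp_Cx_eq {x y : G} {k : ℕ} (h : cs y = cs x * k) (hk : ¬ r ∣ k) :
    rp r (centralizer ({x} : Set G)) = rp r (centralizer ({y} : Set G)) := by
  have h1 : Nat.card (centralizer ({x} : Set G)) = Nat.card (centralizer ({y} : Set G)) * k := by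
    refine Nat.eq_of_mul_eq_mul_right (cs_pos x) ?_
    rw [mul_assoc, mul_comm k, ← h]
    exact (Subgroup.card_mul_index _).trans (Subgroup.card_mul_index _).symm
  have hk0 : k ≠ 0 := fun e => hk (e ▸ dvd_zero r)
  rw [rp, rp, h1, Nat.factorization_mul Nat.card_pos.ne' hk0, Finsupp.add_apply,
    Nat.factorization_eq_zero_of_not_dvd hk, add_zero]

end rp

/-- A subgroup is below another one as soon as full Sylow subgroups of all its primes are. -/
theorem le_of_rp {A B : Subgroup G}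
    (h : ∀ t : ℕ, t.Prime → ∃ U : Subgroup G, U ≤ A ⊓ B ∧ Nat.card U = rp t A) : A ≤ B := by
  have hd : Nat.card A ∣ Nat.card (A ⊓ B : Subgroup G) := by
    rw [Nat.dvd_iff_prime_pow_dvd_dvd]
    intro t k ht htk
    obtain ⟨U, hU, hc⟩ := h t ht
    refine dvd_trans ?_ (card_dvd_of_le hU)
    rw [hc, rp]
    exact pow_dvd_pow t ((ht.pow_dvd_iff_le_factorization Nat.card_pos.ne').mp htk)
  exact (eq_of_le_of_card_ge (inf_le_left : A ⊓ B ≤ A) (Nat.le_of_dvd Nat.card_pos hd)).symm.le.trans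
    inf_le_right

theorem relIndex_mul_cs (A : Subgroup G) (w : G) :
    (centralizer ({w} : Set G)).relIndex A * A.index = (A ⊓ centralizer ({w} : Set G)).index := by
  rw [← relIndex_mul_index (inf_le_left : A ⊓ centralizer ({w} : Set G) ≤ A), inf_relIndex_left]

/-- Some primary part of an element outside `K` is outside `K`. -/
theorem exists_primary_not_mem {K : Subgroup G} {x : G} (hx : x ∉ K) :
    ∃ r : ℕ, r.Prime ∧ ∃ a ∈ zpowers x, RElem r a ∧ a ∉ K := by
  let Z := zpowers x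
  let K' := K.subgroupOf Z
  let g : Z := ⟨x, mem_zpowers x⟩
  haveI : IsMulCommutative Z := inferInstance
  haveI : K'.Normal := ⟨fun a ha b => by rwa [mul_comm' b a, mul_inv_cancel_right]⟩
  have hg : (g : Z ⧸ K') ≠ 1 := fun e => hx (mem_subgroupOf.mp ((QuotientGroup.eq_one_iff g).mp e))
  obtain ⟨r, hr, hro⟩ := Nat.exists_prime_and_dvd (fun e => hg (orderOf_eq_one_iff.mp e))
  haveI := Fact.mk hr
  obtain ⟨a, b, hab, ha, hb, har, hbr⟩ := TwoSizes69.exists_parts' (r := r) x
  refine ⟨r, hr, a, ha, har, fun haK => hbr ?_⟩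
  have e : (g : Z ⧸ K') = ((⟨b, hb⟩ : Z) : Z ⧸ K') := by
    refine (QuotientGroup.eq.mpr (mem_subgroupOf.mpr ?_)).symm
    show b⁻¹ * x ∈ K
    have hc : a * b = b * a := congrArg Subtype.val (mul_comm' (⟨a, ha⟩ : Z) ⟨b, hb⟩)
    rwa [hab, hc, inv_mul_cancel_left]
  rw [e] at hro
  refine hro.trans ((orderOf_map_dvd (QuotientGroup.mk' K') (⟨b, hb⟩ : Z)).trans ?_)
  rw [Subgroup.orderOf_mk]

theorem rElem_zpowers {r : ℕ} [Fact r.Prime] {x a : G} (hx : RElem r x) (ha : a ∈ zpowers x) :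
    RElem r a :=
  RElem.of_mem (TwoSizes69.isPGroup_zpowers hx) ha

omit [Finite G] in
theorem not_dvd_of_rElem {r s : ℕ} (hr : r.Prime) (hs : s.Prime) (hne : r ≠ s) {a : G}
    (ha : RElem r a) : ¬ s ∣ orderOf a := fun hd => by
  obtain ⟨k, hk⟩ := ha
  exact hne ((Nat.prime_dvd_prime_iff_eq hs hr).mp
    (hs.dvd_of_dvd_pow (hd.trans (orderOf_dvd_of_pow_eq_one hk)))).symm

/-- The centralizer of a product of commuting elements of coprime orders. -/
theorem Cx_mul_eq {a b : G} (hc : Commute a b) (hcop : (orderOf a).Coprime (orderOf b)) :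
    centralizer ({a * b} : Set G) = centralizer ({a} : Set G) ⊓ centralizer ({b} : Set G) := by
  have ha : a ∈ zpowers (a * b) := by
    refine PTools69.mem_of_pow_mem (n := orderOf b) hcop.symm (mem_zpowers_iff.mpr ⟨orderOf b, ?_⟩)
    rw [zpow_natCast, hc.mul_pow, pow_orderOf_eq_one, mul_one]
  have hb : b ∈ zpowers (a * b) := by
    refine PTools69.mem_of_pow_mem (n := orderOf a) hcop (mem_zpowers_iff.mpr ⟨orderOf a, ?_⟩)
    rw [zpow_natCast, hc.mul_pow, pow_orderOf_eq_one, one_mul]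
  refine le_antisymm (le_inf (TwoSizes69.centralizer_le_of_mem_zpowers ha)
    (TwoSizes69.centralizer_le_of_mem_zpowers hb)) fun u hu => ?_
  exact mem_of_commute ((commute_of_mem (mem_inf.mp hu).1).mul_right (commute_of_mem (mem_inf.mp hu).2))

theorem coprime_of_rElem {r : ℕ} (hr : r.Prime) {a b : G} (ha : RElem r a) (hb : ¬ r ∣ orderOf b) :
    (orderOf a).Coprime (orderOf b) :=
  haveI := Fact.mk hr
  ha.coprime hb

/-- An element of a Sylow subgroup is conjugate into any other one. -/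
theorem exists_conj_mem_sylow {r : ℕ} [Fact r.Prime] {u : G} (hu : RElem r u) (Q : Sylow r G) :
    ∃ a : G, a * u * a⁻¹ ∈ (Q : Subgroup G) := by
  obtain ⟨S, hS⟩ := (TwoSizes69.isPGroup_zpowers hu).exists_le_sylow
  obtain ⟨g, hg⟩ := MulAction.exists_smul_eq G S Q
  refine ⟨g, hg ▸ ?_⟩
  rw [Sylow.coe_subgroup_smul]
  exact ⟨u, hS (mem_zpowers u), rfl⟩

/-- An `r`-element centralising a Sylow `r`-subgroup lies in it. -/
theorem mem_sylow_of_centralizes {r : ℕ} [Fact r.Prime] {u : G} (hu : RElem r u) (Q : Sylow r G)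
    (h : (Q : Subgroup G) ≤ centralizer ({u} : Set G)) : u ∈ (Q : Subgroup G) := by
  refine PTools69.mem_sylow_of_normalizes Q (centralizer_le_normalizer _ ?_) hu
  exact mem_centralizer_iff.mpr fun x hx => (commute_of_mem (h hx)).eq

/-- A proper subgroup misses a class. -/
theorem exists_not_conj_mem {H : Subgroup G} (h : H ≠ ⊤) : ∃ g : G, ∀ a : G, a * g * a⁻¹ ∉ H := by
  by_contra hne
  push Not at hne
  exact h (GroupBasics.eq_top_of_forall_conj_mem hne)

/-- A subgroup whose `r`-part is as large as that of a subgroup containing the centre and a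
noncentral `r`-element has a noncentral `r`-element. -/
theorem exists_noncentral_mem {r : ℕ} [Fact r.Prime] {w : G} (hw : RElem r w) (hwc : w ∉ center G)
    {K : Subgroup G} (hwK : w ∈ K) (hK : center G ≤ K) {H : Subgroup G} (h : rp r K ≤ rp r H) :
    ∃ u ∈ H, RElem r u ∧ u ∉ center G := by
  obtain ⟨U, hUH, hU, hc⟩ := exists_rp (r := r) H
  by_contra hne
  push Not at hne
  have h1 : U ≤ Zr r G := fun u hu => ⟨hne u (hUH hu) (RElem.of_mem hU hu), RElem.of_mem hU hu⟩
  have hV : IsPGroup r (zpowers w ⊔ Zr r G : Subgroup G) := by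
    obtain ⟨S, hS⟩ := (TwoSizes69.isPGroup_zpowers hw).exists_le_sylow
    exact S.isPGroup'.to_le (sup_le hS (TwoSizes69.Zr_le_sylow S))
  have h2 := card_le_rp hV (H := K) (sup_le (zpowers_le.mpr hwK) fun z hz => hK hz.1)
  have h3 : Nat.card (Zr r G) < Nat.card (zpowers w ⊔ Zr r G : Subgroup G) := by
    refine Set.Finite.card_lt_card (Set.toFinite _)
      (SetLike.coe_ssubset_coe.mpr (lt_of_le_of_ne le_sup_right fun e => hwc ?_))
    have : w ∈ Zr r G := e ▸ mem_sup_left (mem_zpowers w)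
    exact this.1
  have h4 := card_le_of_le h1
  omega

/-- A fixed point modulo the centre. -/
theorem exists_fixed_mod {r : ℕ} [Fact r.Prime] {P U : Subgroup G} (hP : IsPGroup r P) (hUP : U ≤ P)
    (hnorm : P ≤ normalizer (U : Set G)) (hU : ¬ U ≤ center G) :
    ∃ z ∈ U, z ∉ center G ∧ z ^ r ∈ center G ∧ ∀ g ∈ P, ⁅z, g⁆ ∈ center G := by
  classical
  let Z' : Subgroup P := (center G).subgroupOf P
  haveI : Z'.Normal := Subgroup.Normal.subgroupOf inferInstance P
  let π : P →* P ⧸ Z' := QuotientGroup.mk' Z'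
  haveI : (U.subgroupOf P).Normal := normal_subgroupOf_iff_le_normalizer hUP |>.mpr hnorm
  let K : Subgroup (P ⧸ Z') := (U.subgroupOf P).map π
  haveI : K.Normal := (inferInstance : (U.subgroupOf P).Normal).map π (QuotientGroup.mk'_surjective Z')
  obtain ⟨u, huU, hu⟩ := SetLike.not_le_iff_exists.mp hU
  haveI : Nontrivial K := by
    refine (nontrivial_iff_ne_bot K).mpr fun e => hu ?_
    have h1 : π ⟨u, hUP huU⟩ ∈ K := mem_map_of_mem π (mem_subgroupOf.mpr huU)
    rw [e, mem_bot] at h1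
    exact mem_subgroupOf.mp ((QuotientGroup.eq_one_iff _).mp h1)
  obtain ⟨c, hc, hc1⟩ := BlocksCharsC.exists_mem_ne_one
    (BlocksCharsC.inf_center_ne_bot (hP.to_quotient Z') K)
  obtain ⟨hcK, hcZ⟩ := mem_inf.mp hc
  obtain ⟨z, hzU, rfl⟩ := mem_map.mp hcK
  -- the last power outside the centre
  obtain ⟨k, hk⟩ := hP z
  have hex : ∃ i : ℕ, (z : G) ^ r ^ i ∈ center G :=
    ⟨k, by rw [← Subgroup.coe_pow, hk]; exact one_mem _⟩
  have h0 : Nat.find hex ≠ 0 := fun e => hc1 <| by
    have := Nat.find_spec hex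
    rw [e, pow_zero, pow_one] at this
    exact (QuotientGroup.eq_one_iff z).mpr (mem_subgroupOf.mpr this)
  refine ⟨(z : G) ^ r ^ (Nat.find hex - 1), pow_mem (mem_subgroupOf.mp hzU) _,
    Nat.find_min hex (by omega), ?_, ?_⟩
  · rw [← pow_mul, ← pow_succ, Nat.sub_add_cancel (Nat.one_le_iff_ne_zero.mpr h0)]
    exact Nat.find_spec hex
  · intro g hg
    have h1 : ⁅(z : G), g⁆ ∈ center G := by
      have h2 : π ⁅z, ⟨g, hg⟩⁆ = 1 := by
        rw [map_commutatorElement, commutatorElement_eq_one_iff_mul_comm]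
        exact (mem_center_iff.mp hcZ _).symm
      exact mem_subgroupOf.mp ((QuotientGroup.eq_one_iff _).mp h2)
    rw [TwoSizes69.comm_pow_left h1]
    exact pow_mem h1 _

/-- An element moving `a` by a central factor, of order prime to that of `a`, fixes it. -/
theorem commute_of_mod_center {x a c : G} (hc : c ∈ center G) (h : x * a * x⁻¹ = c * a)
    (hcop : (orderOf x).Coprime (orderOf a)) : Commute x a := by
  have h1 : ∀ k : ℕ, x ^ k * a * (x ^ k)⁻¹ = c ^ k * a := by
    intro k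
    induction k with
    | zero => simp
    | succ k ih =>
      calc x ^ (k + 1) * a * (x ^ (k + 1))⁻¹ = x * (x ^ k * a * (x ^ k)⁻¹) * x⁻¹ := by
            rw [pow_succ']; group
        _ = x * c ^ k * x⁻¹ * (x * a * x⁻¹) := by rw [ih]; group
        _ = c ^ (k + 1) * a := by
          rw [h, mem_center_iff.mp (pow_mem hc k) x, mul_inv_cancel_right, ← mul_assoc, ← pow_succ]
  have h2 : c ^ orderOf x = 1 := by
    have := h1 (orderOf x)
    simpa [pow_orderOf_eq_one] using this.symm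
  have h3 : c ^ orderOf a = 1 := by
    have h4 : (x * a * x⁻¹) ^ orderOf a = 1 := by simp [conj_pow, pow_orderOf_eq_one]
    rwa [h, (show Commute c a from (mem_center_iff.mp hc a).symm).mul_pow, pow_orderOf_eq_one,
      mul_one] at h4
  have h5 : c = 1 := by
    have := pow_gcd_eq_one.mpr ⟨h2, h3⟩
    rwa [hcop.gcd_eq_one, pow_one] at this
  rw [h5, one_mul] at h
  exact mul_inv_eq_iff_eq_mul.mp h

namespace Hyp

variable {m n : ℕ}

theorem pos (h : Hyp G m n) : 0 < m ∧ 0 < n ∧ m ≠ m * n ∧ m * n ≠ 1 := by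
  have := h.hm; have := h.hn
  have h1 : m * 1 < m * n := Nat.mul_lt_mul_of_pos_left h.hn (by omega)
  exact ⟨by omega, by omega, by omega, by omega⟩

omit [Finite G] in
theorem not_dvd_n (h : Hyp G m n) {p : ℕ} (hp : p.Prime) (hpm : p ∣ m) : ¬ p ∣ n := fun hd =>
  hp.ne_one (Nat.eq_one_of_dvd_coprimes h.cop hpm hd)

omit [Finite G] in
theorem not_dvd_m (h : Hyp G m n) {q : ℕ} (hq : q.Prime) (hqn : q ∣ n) : ¬ q ∣ m := fun hd =>
  h.not_dvd_n hq hd hqn

theorem cases (h : Hyp G m n) {x : G} (hx : x ∉ center G) : cs x = m ∨ cs x = m * n :=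
  (h.sizes x).resolve_left fun e => hx (cs_eq_one_iff.mp e)

theorem not_center_of_m (h : Hyp G m n) {x : G} (hx : cs x = m) : x ∉ center G := fun hc => by
  have := h.hm; rw [cs_eq_one_iff.mpr hc] at hx; omega

theorem not_center_of_mn (h : Hyp G m n) {x : G} (hx : cs x = m * n) : x ∉ center G := fun hc => by
  have := h.pos; rw [cs_eq_one_iff.mpr hc] at hx; omega

theorem dvd_mn (h : Hyp G m n) (x : G) : cs x ∣ m * n := by
  rcases h.sizes x with e | e | e <;> rw [e]
  exacts [one_dvd _, dvd_mul_right _ _]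

theorem m_dvd (h : Hyp G m n) {x : G} (hx : x ∉ center G) : m ∣ cs x := by
  rcases h.cases hx with e | e <;> rw [e]
  exact dvd_mul_right _ _

theorem eq_m_of_dvd (h : Hyp G m n) {x : G} (hx : x ∉ center G) (hd : cs x ∣ m) : cs x = m :=
  Nat.dvd_antisymm hd (h.m_dvd hx)

/-- A centralizer inside that of a class of size `m * n`. -/
theorem eq_mn_of_le (h : Hyp G m n) {a b : G}
    (hle : centralizer ({a} : Set G) ≤ centralizer ({b} : Set G)) (hb : cs b = m * n) :
    centralizer ({a} : Set G) = centralizer ({b} : Set G) :=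
  eq_of_cs_eq hle ((Nat.dvd_antisymm (h.dvd_mn a) (hb ▸ cs_dvd_of_le hle)).trans hb.symm)

/-- Elements commuting coprimely with a class of size `m * n`. -/
theorem Cx_le_of_mn (h : Hyp G m n) {a b : G} (ha : cs a = m * n) (hc : Commute a b)
    (hcop : (orderOf a).Coprime (orderOf b)) :
    centralizer ({a} : Set G) ≤ centralizer ({b} : Set G) := by
  have h1 := Cx_mul_eq hc hcop
  have h2 := h.eq_mn_of_le (a := a * b) (b := a) (h1.le.trans inf_le_left) ha
  rw [← h2, h1]
  exact inf_le_right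

/-- The relative class sizes inside the centralizer of an element of class size `m`. -/
theorem relIndex_cases (h : Hyp G m n) {y w : G} {r : ℕ} (hr : r.Prime) (hy : RElem r y)
    (hym : cs y = m) (hw : w ∈ centralizer ({y} : Set G)) (hwr : ¬ r ∣ orderOf w) :
    (centralizer ({w} : Set G)).relIndex (centralizer ({y} : Set G)) = 1 ∨
      (centralizer ({w} : Set G)).relIndex (centralizer ({y} : Set G)) = n := by
  have h1 := relIndex_mul_cs (centralizer ({y} : Set G)) w
  rw [← Cx_mul_eq (commute_of_mem hw).symm (coprime_of_rElem hr hy hwr),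
    show (centralizer ({y} : Set G)).index = m from hym] at h1
  have h2 : (centralizer ({w} : Set G)).relIndex (centralizer ({y} : Set G)) * m = cs (y * w) := h1
  have hm0 : 0 < m := h.pos.1
  rcases h.sizes (y * w) with e | e | e <;> rw [e] at h2
  · have := Nat.eq_one_of_mul_eq_one_left h2
    have := h.hm
    omega
  · exact Or.inl (Nat.eq_of_mul_eq_mul_right hm0 (by rw [h2, one_mul]))
  · exact Or.inr (Nat.eq_of_mul_eq_mul_right hm0 (by rw [h2, mul_comm]))

theorem exists_rElem_noncentral {p : ℕ} [Fact p.Prime] {x : G} (hpx : p ∣ cs x) :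
    ∃ w : G, RElem p w ∧ w ∉ center G := by
  obtain ⟨S⟩ : Nonempty (Sylow p G) := inferInstance
  by_contra hne
  push Not at hne
  refine S.not_dvd_index (hpx.trans (index_dvd_of_le fun u hu => ?_))
  exact center_le_Cx x (hne u (RElem.of_mem S.isPGroup' hu))

/-- Centralizers contain noncentral `p`-elements for `p ∣ m`. -/
theorem exists_p_mem_Cx (h : Hyp G m n) {p : ℕ} [Fact p.Prime] (hpm : p ∣ m) (g : G) :
    ∃ w ∈ centralizer ({g} : Set G), RElem p w ∧ w ∉ center G := by
  obtain ⟨y, hy⟩ := h.exM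
  obtain ⟨w, hw, hwc⟩ := exists_rElem_noncentral (x := y) (hy ▸ hpm)
  refine exists_noncentral_mem hw hwc (mem_Cx_self w) (center_le_Cx w) ?_
  by_cases hg : g ∈ center G
  · rw [Cx_eq_top_iff.mpr hg]
    exact rp_le_of_dvd (card_dvd_of_le le_top)
  have hn' := h.not_dvd_n Fact.out hpm
  rcases h.cases hwc with e | e <;> rcases h.cases hg with e' | e'
  · exact le_of_eq (rp_Cx_eq (k := 1) (by rw [e, e', mul_one]) (Fact.out : p.Prime).not_dvd_one)
  · exact le_of_eq (rp_Cx_eq (k := n) (by rw [e, e']) hn')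
  · exact le_of_eq (rp_Cx_eq (k := n) (by rw [e, e']) hn').symm
  · exact le_of_eq (rp_Cx_eq (k := 1) (by rw [e, e', mul_one]) (Fact.out : p.Prime).not_dvd_one)

/-- If some `q`-element has class size `m * n`, every centralizer has noncentral `q`-elements. -/
theorem exists_q_mem_Cx (h : Hyp G m n) {q : ℕ} [Fact q.Prime] {u : G} (hu : RElem q u)
    (hmn : cs u = m * n) (g : G) : ∃ v ∈ centralizer ({g} : Set G), RElem q v ∧ v ∉ center G :=
  exists_noncentral_mem hu (h.not_center_of_mn hmn) (mem_Cx_self u) (center_le_Cx u)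
    (rp_le_of_dvd (rp_Cx_dvd (hmn ▸ h.dvd_mn g)))

/-- A primary element of class size `m`. -/
theorem exists_primary_m (h : Hyp G m n) :
    ∃ (r : ℕ) (y : G), r.Prime ∧ RElem r y ∧ cs y = m := by
  obtain ⟨x, hx⟩ := h.exM
  obtain ⟨r, hr, a, ha, har, hac⟩ := exists_primary_not_mem (h.not_center_of_m hx)
  exact ⟨r, a, hr, har, h.eq_m_of_dvd hac
    (hx ▸ cs_dvd_of_le (TwoSizes69.centralizer_le_of_mem_zpowers ha))⟩

/-- For every prime divisor `q` of `n` some `q`-element has class size `m`. -/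
theorem exists_q_m (h : Hyp G m n) {q : ℕ} [Fact q.Prime] (hqn : q ∣ n) :
    ∃ v : G, RElem q v ∧ cs v = m := by
  by_contra hne
  push Not at hne
  obtain ⟨r, y, hr, hy, hym⟩ := h.exists_primary_m
  have hrq : r ≠ q := fun e => hne y (e ▸ hy) hym
  set A := centralizer ({y} : Set G) with hA
  obtain ⟨Q, -, hQA⟩ := GroupBasics.exists_sylow_le (p := q) (H := A) (Q := ⊥)
    (show ¬ q ∣ cs y from hym ▸ h.not_dvd_m Fact.out hqn) IsPGroup.of_bot bot_le
  obtain ⟨x, hx⟩ := h.exMN
  obtain ⟨u, hu, huc⟩ := exists_rElem_noncentral (x := x) (hx ▸ hqn.trans (dvd_mul_left n m))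
  have humn : cs u = m * n := (h.cases huc).resolve_left (hne u hu)
  obtain ⟨g, hg⟩ := exists_not_conj_mem (H := A)
    fun e => h.not_center_of_m hym (Cx_eq_top_iff.mp e)
  obtain ⟨v, hvg, hv, hvc⟩ := h.exists_q_mem_Cx hu humn g
  obtain ⟨a, ha⟩ := exists_conj_mem_sylow hv Q
  have hvmn : cs (a * v * a⁻¹) = m * n :=
    (cs_conj a v).trans ((h.cases hvc).resolve_left (hne v hv))
  refine hg a (h.Cx_le_of_mn hvmn (b := y) (commute_of_mem (hQA ha)) ?_
    (conj_mem_Cx_conj (comm_symm hvg)))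
  exact coprime_of_rElem Fact.out (RElem.conj hv a)
    (not_dvd_of_rElem hr Fact.out hrq hy)

end Hyp

end CfsgLib.CaminaRankTwo69
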