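/- The normalizer of an abelian centralizer: only one prime divisor of `m` can act. -/
import Cfsg.Agent.CaminaRankTwo69.Basic
import Cfsg.Agent.Coprime.Generation
import Cfsg.Agent.PiClasses69.Parts
import Cfsg.Agent.S0205

set_option autoImplicit false

namespace CfsgLib.CaminaRankTwo69

open Subgroup CfsgLib.ClassCoprime69
open CfsgLib.TwoSizes69 (RElem Zr)
open scoped commutatorElement

/-! ### Abstract lemmas -/

section Abstract

variable {J : Type*} [Group J]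

theorem pow_val_add {n : ℕ} [NeZero n] {a : J} (ha : a ^ n = 1) (x y : ZMod n) :
    a ^ (x + y).val = a ^ x.val * a ^ y.val := by
  rw [ZMod.val_add, ← pow_add]
  exact (pow_eq_pow_mod _ ha).symm

theorem pow_val_natCast {n : ℕ} [NeZero n] {a : J} (ha : a ^ n = 1) (k : ℕ) :
    a ^ (k : ZMod n).val = a ^ k := by
  rw [ZMod.val_natCast]
  exact (pow_eq_pow_mod _ ha).symm

variable {M : Type*} [CommGroup M]

/-- Two independent commuting elements of prime order `ℓ`. -/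
theorem mem_of_rank_two {ℓ : ℕ} [Fact ℓ.Prime] (φ : J →* MulAut M) (W : Subgroup M) {a b : J}
    (hab : Commute a b) (ha : a ^ ℓ = 1) (hb : b ^ ℓ = 1) (ha1 : a ≠ 1) (hba : b ∉ zpowers a)
    (hW : ∀ i j : ℕ, a ^ i * b ^ j ≠ 1 → ∀ z, φ (a ^ i * b ^ j) z = z → z ∈ W)
    (v : M) (hv : (orderOf v).Coprime ℓ) : v ∈ W := by
  have hℓ : ℓ.Prime := Fact.out
  refine Coprime.mem_of_fixed_mem (fun u => (φ (a ^ u.1.val * b ^ u.2.val)).toMonoidHom) ?_ ?_ W ?_ v hv
  · intro z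
    simp
  · intro u w z
    show φ (a ^ u.1.val * b ^ u.2.val) (φ (a ^ w.1.val * b ^ w.2.val) z) = _
    rw [← MulAut.mul_apply, ← map_mul, (hab.symm.pow_pow u.2.val w.1.val).mul_mul_mul_comm,
      ← pow_val_add ha, ← pow_val_add hb]
    rfl
  · intro u hu z hz
    refine hW _ _ (fun he => hu ?_) z hz
    have hordb : orderOf b = ℓ := orderOf_eq_prime hb fun e => hba (e ▸ one_mem _)
    have horda : orderOf a = ℓ := orderOf_eq_prime ha ha1
    by_cases h2 : u.2 = 0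
    · refine Prod.ext ?_ h2
      rw [h2, ZMod.val_zero, pow_zero, mul_one, ← orderOf_dvd_iff_pow_eq_one, horda] at he
      exact (ZMod.val_eq_zero _).mp (Nat.eq_zero_of_dvd_of_lt he (ZMod.val_lt _))
    · exfalso
      have hcop : u.2.val.Coprime (orderOf b) := by
        rw [hordb]
        refine (hℓ.coprime_iff_not_dvd.mpr fun hd => h2 ?_).symm
        exact (ZMod.val_eq_zero _).mp (Nat.eq_zero_of_dvd_of_lt hd (ZMod.val_lt _))
      obtain ⟨c, hc⟩ := exists_pow_eq_self_of_coprime hcop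
      refine hba (hc ▸ pow_mem ?_ c)
      rw [eq_inv_of_mul_eq_one_right he]
      exact inv_mem (pow_mem (mem_zpowers a) _)

/-- A Frobenius group of order `ℓ r`. -/
theorem pow_mem_of_frobenius {ℓ r : ℕ} [Fact ℓ.Prime] [Fact r.Prime] (φ : J →* MulAut M)
    (W : Subgroup M) {a b : J} (ha : orderOf a = ℓ) (hb : orderOf b = r) {i : ℕ}
    (hbab : b * a * b⁻¹ = a ^ i) (hne : a ^ i ≠ a)
    (hW : ∀ j : J, j ∈ closure ({a, b} : Set J) → j ≠ 1 → ∀ z, φ j z = z → z ∈ W)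
    (v : M) : v ^ ℓ ∈ W := by
  classical
  have haℓ : a ^ ℓ = 1 := ha ▸ pow_orderOf_eq_one a
  have hbr : b ^ r = 1 := hb ▸ pow_orderOf_eq_one b
  have haJ : a ∈ closure ({a, b} : Set J) := subset_closure (Set.mem_insert _ _)
  have hbJ : b ∈ closure ({a, b} : Set J) := subset_closure (Set.mem_insert_of_mem _ rfl)
  set I : ZMod ℓ := (i : ZMod ℓ) with hI
  have hconj : ∀ (k : ℕ) (x : ZMod ℓ), b ^ k * a ^ x.val * (b ^ k)⁻¹ = a ^ (I ^ k * x).val := by
    intro k
    induction k with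
    | zero => simp
    | succ k ih =>
      intro x
      calc b ^ (k + 1) * a ^ x.val * (b ^ (k + 1))⁻¹
          = b * (b ^ k * a ^ x.val * (b ^ k)⁻¹) * b⁻¹ := by rw [pow_succ']; group
        _ = (b * a * b⁻¹) ^ (I ^ k * x).val := by rw [ih, conj_pow]
        _ = a ^ (i * (I ^ k * x).val) := by rw [hbab, pow_mul]
        _ = _ := by
          rw [← pow_val_natCast haℓ]
          congr 2
          rw [Nat.cast_mul, ZMod.natCast_zmod_val, pow_succ', ← hI]
          ring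
  have hI1 : I ≠ 1 := fun e => hne (by
    rw [← pow_val_natCast haℓ i, ← hI, e, ZMod.val_one, pow_one])
  have hIr : I ^ r = 1 := by
    have h1 := hconj r 1
    rw [hbr, one_mul, inv_one, mul_one, mul_one, ZMod.val_one, pow_one] at h1
    have h2 : (1 : ℕ) ≡ (I ^ r).val [MOD orderOf a] :=
      pow_eq_pow_iff_modEq.mp (by rw [pow_one]; exact h1)
    rw [ha] at h2
    have h3 := (ZMod.natCast_eq_natCast_iff _ _ _).mpr h2
    rw [Nat.cast_one, ZMod.natCast_zmod_val] at h3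
    exact h3.symm
  have hIk : ∀ y : ZMod r, y ≠ 0 → I ^ y.val ≠ 1 := by
    intro y hy e
    refine hI1 ?_
    have hcop : r.Coprime y.val := (Fact.out : r.Prime).coprime_iff_not_dvd.mpr fun hd =>
      hy ((ZMod.val_eq_zero _).mp (Nat.eq_zero_of_dvd_of_lt hd (ZMod.val_lt _)))
    have := pow_gcd_eq_one.mpr ⟨hIr, e⟩
    rwa [hcop.gcd_eq_one, pow_one] at this
  set h : ZMod ℓ → ZMod r → M := fun x y => φ (a ^ x.val * b ^ y.val) v with hh
  have hfix : ∀ (s : J) (hs : s ∈ closure ({a, b} : Set J)) (hs1 : s ≠ 1) (f : M),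
      φ s f = f → f ∈ W := fun s hs hs1 f hf => hW s hs hs1 f hf
  have ha1 : a ≠ 1 := fun e => (Fact.out : ℓ.Prime).ne_one (by rw [← ha, e, orderOf_one])
  have hb1 : b ≠ 1 := fun e => (Fact.out : r.Prime).ne_one (by rw [← hb, e, orderOf_one])
  have hshift : ∀ (x : ZMod ℓ) (y : ZMod r), φ a (h x y) = h (1 + x) y := by
    intro x y
    show φ a (φ (a ^ x.val * b ^ y.val) v) = φ (a ^ (1 + x).val * b ^ y.val) v
    rw [← MulAut.mul_apply, ← map_mul, pow_val_add haℓ, ZMod.val_one, pow_one, mul_assoc]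
  have hall : (∏ y : ZMod r, ∏ x : ZMod ℓ, h x y) ∈ W := by
    refine hfix a haJ ha1 _ ?_
    simp only [map_prod, hshift]
    exact Finset.prod_congr rfl fun y _ =>
      Fintype.prod_equiv (Equiv.addLeft 1) _ _ fun x => rfl
  have hA : (∏ x : ZMod ℓ, h x 0) ∈ W := by
    refine hfix a haJ ha1 _ ?_
    simp only [map_prod, hshift]
    exact Fintype.prod_equiv (Equiv.addLeft 1) _ _ fun x => rfl
  have hline : ∀ c : ZMod ℓ, (∏ y : ZMod r, h (c * (1 - I ^ y.val)) y) ∈ W := by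
    intro c
    set β := a ^ c.val * b * (a ^ c.val)⁻¹ with hβ
    have hβJ : β ∈ closure ({a, b} : Set J) :=
      mul_mem (mul_mem (pow_mem haJ _) hbJ) (inv_mem (pow_mem haJ _))
    have hβ1 : β ≠ 1 := fun e => hb1 (by
      rw [hβ, mul_inv_eq_one] at e
      exact mul_left_cancel (e.trans (mul_one _).symm))
    have key : ∀ k : ℕ, β ^ k = a ^ (c * (1 - I ^ k)).val * b ^ k := by
      intro k
      have h1 : a ^ (I ^ k * -c).val = b ^ k * (a ^ c.val)⁻¹ * (b ^ k)⁻¹ := by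
        rw [← hconj k (-c)]
        congr 2
        refine eq_inv_of_mul_eq_one_left ?_
        rw [← pow_val_add haℓ, neg_add_cancel, ZMod.val_zero, pow_zero]
      rw [hβ, conj_pow, show c * (1 - I ^ k) = c + I ^ k * -c by ring, pow_val_add haℓ, h1]
      group
    refine hfix β hβJ hβ1 _ ?_
    have e : ∀ y : ZMod r, h (c * (1 - I ^ y.val)) y = φ (β ^ y.val) v := fun y => by
      rw [key]
    simp only [e, map_prod, ← MulAut.mul_apply, ← map_mul]
    refine Fintype.prod_equiv (Equiv.addLeft 1) _ _ fun y => ?_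
    have hβr : β ^ r = 1 := by rw [hβ, conj_pow, hbr]; group
    show φ (β * β ^ y.val) v = φ (β ^ (1 + y).val) v
    rw [pow_val_add hβr, ZMod.val_one, pow_one]
  have hid : (∏ c : ZMod ℓ, ∏ y : ZMod r, h (c * (1 - I ^ y.val)) y) * (∏ x : ZMod ℓ, h x 0) =
      v ^ ℓ * ∏ y : ZMod r, ∏ x : ZMod ℓ, h x y := by
    rw [Finset.prod_comm, ← Finset.mul_prod_erase _ _ (Finset.mem_univ (0 : ZMod r)),
      ← Finset.mul_prod_erase _ (fun y : ZMod r => ∏ x : ZMod ℓ, h x y)
        (Finset.mem_univ (0 : ZMod r))]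
    have h0 : (∏ c : ZMod ℓ, h (c * (1 - I ^ (0 : ZMod r).val)) 0) = v ^ ℓ := by
      simp [hh, ZMod.card]
    have hrest : ∏ y ∈ Finset.univ.erase (0 : ZMod r), ∏ c : ZMod ℓ, h (c * (1 - I ^ y.val)) y =
        ∏ y ∈ Finset.univ.erase (0 : ZMod r), ∏ x : ZMod ℓ, h x y :=
      Finset.prod_congr rfl fun y hy =>
        Fintype.prod_equiv (Equiv.mulRight₀ (1 - I ^ y.val)
          (sub_ne_zero.mpr (Ne.symm (hIk y (Finset.ne_of_mem_erase hy))))) _ _ fun c => rfl
    rw [h0, hrest]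
    ac_rfl
  have h1 : v ^ ℓ * ∏ y : ZMod r, ∏ x : ZMod ℓ, h x y ∈ W := by
    rw [← hid]
    exact mul_mem (prod_mem fun c _ => hline c) hA
  exact (mul_mem_cancel_right hall).mp h1

variable [Finite J]

/-- A commuting element of prime order modulo a normal subgroup. -/
theorem exists_commuting {K : Subgroup J} [K.Normal] {ℓ r : ℕ} (hℓ : ℓ.Prime) (hr : r.Prime)
    (hℓr : ℓ ≠ r) {t b : J} (ht : orderOf t = ℓ) (hb : orderOf b = r) (hℓK : ¬ ℓ ∣ Nat.card K)
    (hrK : ¬ r ∣ Nat.card K) (hconj : ∀ x : J, x * t * x⁻¹ * t⁻¹ ∈ K) :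
    ∃ c : J, orderOf c = r ∧ Commute t c := by
  haveI := Fact.mk hℓ
  set T := zpowers t with hT
  set L := K ⊔ T with hL
  haveI : L.Normal := by
    have hle : ∀ x : J, L ≤ L.comap (MulAut.conj x).toMonoidHom := fun x => by
      refine sup_le (fun k hk => mem_sup_left ?_) (zpowers_le.mpr ?_)
      · exact (inferInstance : K.Normal).conj_mem k hk x
      · show x * t * x⁻¹ ∈ L
        rw [← inv_mul_cancel_right (x * t * x⁻¹) t]
        exact mul_mem (mem_sup_left (hconj x)) (mem_sup_right (mem_zpowers t))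
    exact ⟨fun n hn x => hle x hn⟩
  have hdisj : K ⊓ T = ⊥ := inf_eq_bot_of_coprime (by
    rw [Nat.card_zpowers, ht]; exact (hℓ.coprime_iff_not_dvd.mpr hℓK).symm)
  have hcard : Nat.card L = Nat.card K * ℓ := by
    have h1 := relIndex_mul_relIndex ⊥ K L bot_le le_sup_left
    rw [relIndex_sup_left, ← inf_relIndex_right K T, hdisj, relIndex_bot_left, relIndex_bot_left,
      relIndex_bot_left, Nat.card_zpowers, ht] at h1
    exact h1.symm
  have hrL : ¬ r ∣ Nat.card L := by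
    rw [hcard]
    exact fun hd => (hr.dvd_mul.mp hd).elim hrK fun e => hℓr ((Nat.prime_dvd_prime_iff_eq hr hℓ).mp e).symm
  let P : Sylow ℓ L := Sylow.ofCard (T.subgroupOf L) (by
    rw [Nat.card_congr (subgroupOfEquivOfLe le_sup_right).toEquiv, hT, Nat.card_zpowers, ht, hcard,
      Nat.factorization_mul Nat.card_pos.ne' hℓ.ne_zero, Finsupp.add_apply,
      Nat.factorization_eq_zero_of_not_dvd hℓK, zero_add, hℓ.factorization_self, pow_one])
  have hfr := Sylow.normalizer_sup_eq_top P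
  rw [Sylow.coe_ofCard, map_subgroupOf_eq_of_le le_sup_right] at hfr
  have hbmem : b ∈ normalizer (T : Set J) ⊔ L := hfr ▸ mem_top b
  obtain ⟨e, he, l, hl, rfl⟩ := mem_sup_of_normal_right.mp hbmem
  have hcomm : Commute t e := by
    have h1 : e * t * e⁻¹ * t⁻¹ ∈ K ⊓ T := mem_inf.mpr ⟨hconj e,
      mul_mem ((mem_normalizer_iff.mp he t).mp (mem_zpowers t)) (inv_mem (mem_zpowers t))⟩
    rw [hdisj, mem_bot, mul_inv_eq_one, mul_inv_eq_iff_eq_mul] at h1
    exact h1.symm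
  have hre : r ∣ orderOf e := by
    have h1 : QuotientGroup.mk' L (e * l) = QuotientGroup.mk' L e := by
      rw [map_mul, show QuotientGroup.mk' L l = 1 from (QuotientGroup.eq_one_iff l).mpr hl, mul_one]
    have h2 : orderOf (QuotientGroup.mk' L (e * l)) = r := by
      refine ((Nat.dvd_prime hr).mp (hb ▸ orderOf_map_dvd (QuotientGroup.mk' L) (e * l))).resolve_left
        fun h3 => hrL ?_
      rw [orderOf_eq_one_iff] at h3
      exact hb ▸ Subgroup.orderOf_dvd_natCard L ((QuotientGroup.eq_one_iff _).mp h3)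
    rw [h1] at h2
    exact h2 ▸ orderOf_map_dvd (QuotientGroup.mk' L) e
  exact ⟨e ^ (orderOf e / r), orderOf_pow_orderOf_div (orderOf_pos e).ne' hre, hcomm.pow_right _⟩

/-- A solvable normal subgroup contains an abelian normal subgroup of prime exponent. -/
theorem exists_abelian_normal {K : Subgroup J} [K.Normal] (hK : Group.IsSolvable K) (hK1 : K ≠ ⊥) :
    ∃ (ℓ : ℕ) (D : Subgroup J), ℓ.Prime ∧ D.Normal ∧ D ≠ ⊥ ∧ ℓ ∣ Nat.card J ∧
      (∀ a ∈ D, ∀ b ∈ D, a * b = b * a) ∧ ∀ a ∈ D, a ^ ℓ = 1 := by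
  classical
  have hex : ∃ k, derivedSeries K k = ⊥ := hK.solvable
  have h0 : Nat.find hex ≠ 0 := fun e => hK1 (by
    have := Nat.find_spec hex
    rw [e, derivedSeries_zero] at this
    exact (subgroupOf_eq_bot.mp (by rwa [subgroupOf_self])).eq_bot_of_ge le_rfl)
  set k := Nat.find hex - 1
  set A : Subgroup J := (derivedSeries K k).map K.subtype with hA
  haveI : A.Normal := ConjAct.normal_of_characteristic_of_normal
  have hA1 : A ≠ ⊥ := fun e => Nat.find_min hex (show k < Nat.find hex by omega)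
    ((map_eq_bot_iff_of_injective _ K.subtype_injective).mp e)
  have hcomm : ∀ a ∈ A, ∀ b ∈ A, a * b = b * a := by
    rintro _ ⟨a, ha, rfl⟩ _ ⟨b, hb, rfl⟩
    have h1 : ⁅a, b⁆ ∈ derivedSeries K (k + 1) := by
      rw [derivedSeries_succ]
      exact commutator_mem_commutator ha hb
    rw [show k + 1 = Nat.find hex by omega, Nat.find_spec hex, mem_bot,
      commutatorElement_eq_one_iff_mul_comm] at h1
    rw [← map_mul, ← map_mul, h1]
  obtain ⟨ℓ, hℓ, hℓA⟩ := Nat.exists_prime_and_dvd (fun e => hA1 (card_eq_one.mp e))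
  haveI := Fact.mk hℓ
  let D : Subgroup J :=
    { carrier := {a | a ∈ A ∧ a ^ ℓ = 1}
      one_mem' := ⟨one_mem _, one_pow _⟩
      mul_mem' := fun {a b} ha hb => ⟨mul_mem ha.1 hb.1, by
        rw [(show Commute a b from hcomm a ha.1 b hb.1).mul_pow, ha.2, hb.2, one_mul]⟩
      inv_mem' := fun {a} ha => ⟨inv_mem ha.1, by rw [inv_pow, ha.2, inv_one]⟩ }
  refine ⟨ℓ, D, hℓ, ⟨fun a ha x => ⟨(inferInstance : A.Normal).conj_mem a ha.1 x, ?_⟩⟩, ?_, ?_,
    fun a ha b hb => hcomm a ha.1 b hb.1, fun a ha => ha.2⟩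
  · rw [conj_pow, ha.2]; group
  · obtain ⟨a, ha⟩ := exists_prime_orderOf_dvd_card' (G := A) ℓ hℓA
    intro e
    have h1 : (a : J) ∈ D := ⟨a.2, by
      rw [← Subgroup.coe_pow, ← ha, pow_orderOf_eq_one, Subgroup.coe_one]⟩
    rw [e, mem_bot] at h1
    rw [Subtype.ext h1 (a2 := (1 : A)), orderOf_one] at ha
    exact hℓ.ne_one ha.symm
  · exact hℓA.trans (card_subgroup_dvd_card A)

end Abstract

/-! ### The local lemma -/

variable {G : Type*} [Group G]

/-- An abelian centralizer and its properties. -/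
structure Loc (G : Type*) [Group G] (m q : ℕ) (W : Subgroup G) : Prop where
  hq : q.Prime
  hqm : ¬ q ∣ m
  comm : ∀ a ∈ W, ∀ b ∈ W, a * b = b * a
  eq : ∀ a ∈ W, a ∉ center G → ¬ q ∣ orderOf a → centralizer ({a} : Set G) = W
  semi : ∀ u ∈ W, u ∉ center G → RElem q u → ∀ x ∈ normalizer (W : Set G), ¬ q ∣ orderOf x →
    Commute x u → x ∈ W
  exq : ∃ u ∈ W, RElem q u ∧ u ∉ center G
  exp : ∀ p : ℕ, p.Prime → p ∣ m → ∃ z ∈ W, RElem p z ∧ z ∉ center G
  idx : ∀ t : ℕ, t.Prime → t ∣ W.index → t ∣ m ∨ t = q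

namespace Loc

variable {m q : ℕ} {W : Subgroup G}

/-- The `r`-elements of `W`. -/
def part (h : Loc G m q W) (r : ℕ) : Subgroup G where
  carrier := {a | a ∈ W ∧ RElem r a}
  one_mem' := ⟨one_mem _, 0, by simp⟩
  mul_mem' := by
    rintro a b ⟨ha, i, hi⟩ ⟨hb, j, hj⟩
    refine ⟨mul_mem ha hb, i + j, ?_⟩
    rw [(show Commute a b from h.comm a ha b hb).mul_pow, pow_add, pow_mul, hi, one_pow, one_mul,
      mul_comm, pow_mul, hj, one_pow]
  inv_mem' := by
    rintro a ⟨ha, i, hi⟩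
    exact ⟨inv_mem ha, i, by rw [inv_pow, hi, inv_one]⟩

variable [Finite G]

theorem ne_q (h : Loc G m q W) {r : ℕ} (hrm : r ∣ m) : r ≠ q := fun e => h.hqm (e ▸ hrm)

/-- An element of order prime to `r` commuting modulo `W` with an `r`-element outside `W`. -/
theorem mem_of_commutator_mem (h : Loc G m q W) {r : ℕ} [Fact r.Prime] (hrm : r ∣ m) {g x : G}
    (hg : g ∈ normalizer (W : Set G)) (hgW : g ∉ W) (hgr : RElem r g)
    (hx : x ∈ normalizer (W : Set G)) (hxr : ¬ r ∣ orderOf x) (hc : g * x * g⁻¹ * x⁻¹ ∈ W) :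
    x ∈ W := by
  have hr : r.Prime := Fact.out
  set U := h.part r with hU
  have hUp : IsPGroup r U := fun a => by
    obtain ⟨k, hk⟩ := a.2.2
    exact ⟨k, Subtype.ext (by simpa using hk)⟩
  have hnormU : ∀ y ∈ normalizer (W : Set G), y ∈ normalizer (U : Set G) := by
    intro y hy
    rw [mem_normalizer_iff]
    intro a
    refine ⟨fun ha => ⟨(mem_normalizer_iff.mp hy a).mp ha.1, RElem.conj ha.2 y⟩, fun ha => ?_⟩
    refine ⟨(mem_normalizer_iff.mp hy a).mpr ha.1, ?_⟩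
    have := RElem.conj ha.2 y⁻¹
    rwa [show y⁻¹ * (y * a * y⁻¹) * y⁻¹⁻¹ = a by group] at this
  obtain ⟨z0, hz0W, hz0, hz0c⟩ := h.exp r hr hrm
  have hgU : zpowers g ≤ normalizer (U : Set G) := zpowers_le.mpr (hnormU g hg)
  have hP : IsPGroup r (zpowers g ⊔ U : Subgroup G) :=
    (TwoSizes69.isPGroup_zpowers hgr).to_sup_of_normal_right' hUp hgU
  obtain ⟨z, hzU, hzc, -, hfix⟩ := exists_fixed_mod hP le_sup_right (sup_le hgU le_normalizer)
    (fun hle => hz0c (hle ⟨hz0W, hz0⟩))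
  have hzg : ⁅z, g⁆ ∈ center G := hfix g (mem_sup_left (mem_zpowers g))
  obtain ⟨hzW, hzr⟩ : z ∈ W ∧ RElem r z := hzU
  set z' := x * z * x⁻¹ with hz'
  have hz'W : z' ∈ W := (mem_normalizer_iff.mp hx z).mp hzW
  set c := g * x * g⁻¹ * x⁻¹ with hc'
  have h1 : ⁅z', x * g * x⁻¹⁆ = ⁅z, g⁆ := by
    rw [hz', show ⁅x * z * x⁻¹, x * g * x⁻¹⁆ = x * ⁅z, g⁆ * x⁻¹ by
      simp only [commutatorElement_def]; group, mem_center_iff.mp hzg x, mul_inv_cancel_right]
  have h2 : ⁅z', g⁆ = ⁅z, g⁆ := by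
    have e : x * g * x⁻¹ = c⁻¹ * g := by rw [hc']; group
    rw [e] at h1
    have hcz : Commute z' c⁻¹ := h.comm z' hz'W c⁻¹ (inv_mem hc)
    have e2 : ⁅z', c⁻¹ * g⁆ = c⁻¹ * ⁅z', g⁆ * c⁻¹⁻¹ := by
      rw [show ⁅z', c⁻¹ * g⁆ = ⁅z', c⁻¹⁆ * (c⁻¹ * ⁅z', g⁆ * c⁻¹⁻¹) by
        simp only [commutatorElement_def]; group, commutatorElement_eq_one_iff_commute.mpr hcz,
        one_mul]
    rw [e2, mul_inv_eq_iff_eq_mul, ← mem_center_iff.mp hzg c⁻¹] at h1
    exact mul_left_cancel h1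
  -- `g` centralises `z' * z⁻¹`
  have hζ : z' * z⁻¹ ∈ center G := by
    by_contra hζc
    have hζW : z' * z⁻¹ ∈ W := mul_mem hz'W (inv_mem hzW)
    have hζr : RElem r (z' * z⁻¹) :=
      ((h.part r).mul_mem ⟨hz'W, hzr.conj x⟩ ((h.part r).inv_mem ⟨hzW, hzr⟩)).2
    refine hgW ((h.eq _ hζW hζc (not_dvd_of_rElem hr h.hq (h.ne_q hrm) hζr)).le ?_)
    have hcgz' : g * z'⁻¹ * g⁻¹ = z'⁻¹ * ⁅z, g⁆ := by
      rw [← h2, commutatorElement_def]; group
    have hcgz : g * z⁻¹ * g⁻¹ = z⁻¹ * ⁅z, g⁆ := by rw [commutatorElement_def]; group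
    refine mem_of_commute (mul_inv_eq_iff_eq_mul.mp ?_)
    calc g * (z' * z⁻¹) * g⁻¹ = (g * z'⁻¹ * g⁻¹)⁻¹ * (g * z⁻¹ * g⁻¹) := by group
      _ = z' * z⁻¹ := by
        rw [hcgz', hcgz, mul_inv_rev, inv_inv, mul_assoc, ← mul_assoc z' z⁻¹,
          mem_center_iff.mp hzg (z' * z⁻¹), inv_mul_cancel_left]
  have hcomm : Commute x z :=
    commute_of_mod_center hζ (by rw [hz']; group) (coprime_of_rElem hr hzr hxr).symm
  exact (h.eq z hzW hzc (not_dvd_of_rElem hr h.hq (h.ne_q hrm) hzr)).le (mem_of_commute hcomm)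

/-- Two primes of `m` cannot both act on `W`. -/
theorem unique_prime (h : Loc G m q W) {p r : ℕ} (hp : p.Prime) (hr : r.Prime) (hpm : p ∣ m)
    (hrm : r ∣ m) {gp gr : G} (hgp : gp ∈ normalizer (W : Set G)) (hgpW : gp ∉ W)
    (hgpr : RElem p gp) (hgr : gr ∈ normalizer (W : Set G)) (hgrW : gr ∉ W) (hgrr : RElem r gr) :
    p = r := by
  classical
  by_contra hpr
  wlog hr2 : r ≠ 2 generalizing p r gp gr
  · exact this hr hp hrm hpm hgr hgrW hgrr hgp hgpW hgpr (Ne.symm hpr)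
      (fun e => hpr (e.trans (not_ne_iff.mp hr2).symm))
  set N := normalizer (W : Set G) with hN
  let W' : Subgroup N := W.subgroupOf N
  haveI : W'.Normal := Subgroup.normal_in_normalizer
  letI : CommGroup W' := { (inferInstance : Group W') with
    mul_comm := fun a b => Subtype.ext (Subtype.ext (h.comm _ a.2 _ b.2)) }
  let J := N ⧸ W'
  let π : N →* J := QuotientGroup.mk' W'
  have hπ : ∀ x : N, π x = 1 ↔ (x : G) ∈ W := fun x =>
    (QuotientGroup.eq_one_iff x).trans mem_subgroupOf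
  have hker : W' ≤ (MulAut.conjNormal : N →* MulAut W').ker := fun w hw => by
    refine MonoidHom.mem_ker.mpr (MulEquiv.ext fun a => Subtype.ext ?_)
    rw [MulAut.conjNormal_apply, MulAut.one_apply]
    exact mul_inv_eq_iff_eq_mul.mpr (Subtype.ext (h.comm _ (mem_subgroupOf.mp hw) _ a.2))
  let φ : J →* MulAut W' := QuotientGroup.lift W' MulAut.conjNormal hker
  let ι : W' →* G := N.subtype.comp W'.subtype
  let C0 : Subgroup W' := (center G).comap ι
  have hφ : ∀ (x : N) (a : W'), ι (φ (π x) a) = (x : G) * ι a * (x : G)⁻¹ := fun x a => by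
    show ((((MulAut.conjNormal x) a : W') : N) : G) = _
    rw [MulAut.conjNormal_apply]
    rfl
  -- lifts
  have hlift : ∀ (s : ℕ) (j : J), s.Prime → ∃ x y : N, π (x * y) = j ∧ RElem s (x : G) ∧
      ¬ s ∣ orderOf (y : G) ∧ (RElem s j → π x = j) ∧ (¬ s ∣ orderOf j → π y = j) := by
    intro s j hs
    haveI := Fact.mk hs
    obtain ⟨x0, rfl⟩ := QuotientGroup.mk'_surjective W' j
    obtain ⟨a, b, hab, ha, hb, har, hbr⟩ := TwoSizes69.exists_parts' (r := s) x0
    obtain ⟨k, hk⟩ := har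
    have har' : RElem s (π a) := ⟨k, by rw [← map_pow, hk, map_one]⟩
    have hbr' : ¬ s ∣ orderOf (π b) := fun hd => hbr (hd.trans (orderOf_map_dvd π b))
    refine ⟨a, b, by rw [← hab], ⟨k, by rw [← Subgroup.coe_pow, hk, Subgroup.coe_one]⟩,
      by rwa [Subgroup.orderOf_coe], fun hj => ?_, fun hj => ?_⟩
    · have hb1 : π b = 1 := by
        refine (rElem_zpowers hj (show π b ∈ zpowers (π x0) from ?_)).eq_one hbr'
        obtain ⟨i, rfl⟩ := mem_zpowers_iff.mp hb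
        exact mem_zpowers_iff.mpr ⟨i, (map_zpow π x0 i).symm⟩
      show π a = π x0
      rw [hab, map_mul, hb1, mul_one]
    · have ha1 : π a = 1 := by
        refine har'.eq_one fun hd => hj (hd.trans ?_)
        rw [← Nat.card_zpowers, ← Nat.card_zpowers]
        refine card_dvd_of_le (zpowers_le.mpr ?_)
        obtain ⟨i, rfl⟩ := mem_zpowers_iff.mp ha
        exact mem_zpowers_iff.mpr ⟨i, (map_zpow π x0 i).symm⟩
      show π b = π x0
      rw [hab, map_mul, ha1, one_mul]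
  have hprimeJ : ∀ s : ℕ, s.Prime → s ∣ Nat.card J → s ∣ m ∨ s = q := fun s hs hd =>
    h.idx s hs (hd.trans ((dvd_mul_right _ _).trans (relIndex_mul_index le_normalizer).dvd))
  -- commuting elements
  have hP1 : ∀ (s : ℕ) (j k : J), s.Prime → s ∣ m → RElem s j → j ≠ 1 → Commute j k →
      ¬ s ∣ orderOf k → k = 1 := by
    intro s j k hs hsm hj hj1 hjk hk
    haveI := Fact.mk hs
    obtain ⟨x, -, -, hxr, -, hx, -⟩ := hlift s j hs
    obtain ⟨-, y, -, -, hyr, -, hy⟩ := hlift s k hs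
    rw [← hy hk]
    refine (hπ y).mpr (h.mem_of_commutator_mem hsm x.2
      (fun hxW => hj1 ((hx hj).symm.trans ((hπ x).mpr hxW))) hxr y.2 hyr ?_)
    refine (hπ (x * y * x⁻¹ * y⁻¹)).mp ?_
    rw [map_mul, map_mul, map_mul, map_inv, map_inv, hx hj, hy hk, hjk.eq, mul_inv_cancel_right,
      mul_inv_cancel]
  -- semiregularity
  have hsemiQ : ∀ (j : J) (a : W'), j ≠ 1 → ¬ q ∣ orderOf j → RElem q (ι a) → φ j a = a → a ∈ C0 := by
    intro j a hj hjq ha hfix
    by_contra hac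
    obtain ⟨-, y, -, -, hyr, -, hy⟩ := hlift q j h.hq
    refine hj ((hy hjq).symm.trans ((hπ y).mpr
      (h.semi _ (mem_subgroupOf.mp a.2) hac ha _ y.2 hyr (mul_inv_eq_iff_eq_mul.mp ?_))))
    have := hφ y a
    rw [hy hjq, hfix] at this
    exact this.symm
  have hsemiR : ∀ (j : J) (a : W'), j ≠ 1 → ¬ q ∣ orderOf (ι a) → φ j a = a → a ∈ C0 := by
    intro j a hj ha hfix
    by_contra hac
    obtain ⟨x, rfl⟩ := QuotientGroup.mk'_surjective W' j
    refine hj ((hπ x).mpr ((h.eq _ (mem_subgroupOf.mp a.2) hac ha).le (mem_of_commute ?_)))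
    have := hφ x a
    rw [hfix] at this
    exact mul_inv_eq_iff_eq_mul.mp this.symm
  have hsemi : ∀ (s : ℕ) (j : J) (a : W'), s.Prime → (s = q → ¬ q ∣ orderOf j) → j ≠ 1 →
      RElem s (ι a) → φ j a = a → a ∈ C0 := by
    intro s j a hs hsq hj ha hfix
    rcases eq_or_ne s q with rfl | hne
    · exact hsemiQ j a hj (hsq rfl) ha hfix
    · exact hsemiR j a hj (not_dvd_of_rElem hs h.hq hne ha) hfix
  have hfixC0 : ∀ (j : J) (a : W'), a ∈ C0 → φ j a = a := by
    intro j a ha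
    obtain ⟨x, rfl⟩ := QuotientGroup.mk'_surjective W' j
    refine Subtype.ext (Subtype.ext ((hφ x a).trans ?_))
    rw [mem_center_iff.mp (ha : ι a ∈ center G) x, mul_inv_cancel_right]
    rfl
  have hRElem : ∀ (s : ℕ) (j : J) (a : W'), RElem s (ι a) → RElem s (ι (φ j a)) := by
    intro s j a ha
    obtain ⟨x, rfl⟩ := QuotientGroup.mk'_surjective W' j
    rw [hφ]
    exact RElem.conj ha _
  -- elements fixing all `s`-elements modulo the centre
  let ker : ℕ → Subgroup J := fun s =>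
    { carrier := {j | ∀ a : W', RElem s (ι a) → φ j a * a⁻¹ ∈ C0}
      one_mem' := fun a _ => by rw [map_one, MulAut.one_apply, mul_inv_cancel]; exact one_mem _
      mul_mem' := fun {j k} hj hk a ha => by
        have h1 := mul_mem (hj (φ k a) (hRElem s k a ha)) (hk a ha)
        rwa [mul_assoc, inv_mul_cancel_left, ← MulAut.mul_apply, ← map_mul] at h1
      inv_mem' := fun {j} hj a ha => by
        have h1 := inv_mem (hj (φ j⁻¹ a) (hRElem s _ a ha))
        rwa [← MulAut.mul_apply, ← map_mul, mul_inv_cancel, map_one, MulAut.one_apply, mul_inv_rev,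
          inv_inv] at h1 }
  have hkern : ∀ s, (ker s).Normal := fun s => ⟨fun j hj g a ha => by
    have h1 := hj (φ g⁻¹ a) (hRElem s _ a ha)
    have e : φ (g * j * g⁻¹) a * a⁻¹ = φ g (φ j (φ g⁻¹ a) * (φ g⁻¹ a)⁻¹) := by
      simp only [map_mul, map_inv, MulAut.mul_apply, MulAut.apply_inv_self]
    rw [e, hfixC0 g _ h1]
    exact h1⟩
  have hkerdvd : ∀ s ℓ : ℕ, s.Prime → ℓ.Prime → ℓ ≠ s → (∃ z ∈ W, RElem s z ∧ z ∉ center G) →
      ¬ ℓ ∣ Nat.card (ker s) := by
    intro s ℓ hs hℓ hℓs ⟨z, hzW, hz, hzc⟩ hd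
    haveI := Fact.mk hℓ
    haveI := Fact.mk hs
    obtain ⟨⟨j, hj⟩, hjo⟩ := exists_prime_orderOf_dvd_card' (G := ker s) ℓ hd
    rw [Subgroup.orderOf_mk] at hjo
    let a : W' := ⟨⟨z, le_normalizer hzW⟩, mem_subgroupOf.mpr hzW⟩
    obtain ⟨-, y, -, -, hyr, -, hy⟩ := hlift s j hs
    have hjs : ¬ s ∣ orderOf j := hjo ▸ fun hd' => hℓs ((Nat.prime_dvd_prime_iff_eq hs hℓ).mp hd').symm
    have hcm : Commute (y : G) z := by
      refine commute_of_mod_center (c := ι (φ j a * a⁻¹)) (hj a hz) ?_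
        (coprime_of_rElem hs hz hyr).symm
      rw [map_mul, map_inv, ← hy hjs, hφ]
      show _ = _ * z⁻¹ * z
      rw [inv_mul_cancel_right]
      rfl
    have hfix : φ j a = a := by
      refine Subtype.ext (Subtype.ext ?_)
      show ι (φ j a) = z
      rw [← hy hjs, hφ]
      exact mul_inv_eq_iff_eq_mul.mpr hcm.eq
    have hj1 : j ≠ 1 := fun e => hℓ.ne_one (by rw [← hjo, e, orderOf_one])
    exact hzc (hsemi s j a hs (fun e => e ▸ hjs) hj1 hz hfix)
  have hinv : ∀ (s : ℕ) (t : J), s.Prime → (s = q → q ≠ 2) → orderOf t = 2 →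
      ∀ a : W', RElem s (ι a) → φ t a * a ∈ C0 := by
    intro s t hs hsq ht a ha
    haveI := Fact.mk hs
    refine hsemi s t _ hs (fun e hd => hsq e ?_) (fun e => by rw [e, orderOf_one] at ht; omega) ?_ ?_
    · exact (Nat.prime_dvd_prime_iff_eq h.hq Nat.prime_two).mp (ht ▸ hd)
    · rw [map_mul]
      exact ((h.part s).mul_mem ⟨mem_subgroupOf.mp (φ t a).2, hRElem s t a ha⟩
        ⟨mem_subgroupOf.mp a.2, ha⟩).2
    · rw [map_mul, ← MulAut.mul_apply, ← map_mul, ← sq, ← ht, pow_orderOf_eq_one, map_one,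
        MulAut.one_apply, mul_comm]
  have hinvprod : ∀ (s : ℕ) (t : J), s.Prime → (s = q → q ≠ 2) → orderOf t = 2 →
      ∀ x : J, x * t * x⁻¹ * t⁻¹ ∈ ker s := by
    intro s t hs hsq ht x a ha
    have ht' : orderOf (x * t * x⁻¹) = 2 := by
      rw [← MulAut.conj_apply, MulEquiv.orderOf_eq, ht]
    have htt : t⁻¹ = t := inv_eq_of_mul_eq_one_right (by rw [← sq, ← ht, pow_orderOf_eq_one])
    set u := x * t * x⁻¹
    have h1 := hinv s u hs hsq ht' _ (hRElem s t a ha)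
    have h2 := hinv s t hs hsq ht a ha
    rw [← MulAut.mul_apply, ← map_mul] at h1
    rw [htt]
    have h3 := mul_mem h1 (inv_mem h2)
    rwa [mul_inv, ← mul_assoc, mul_inv_cancel_right] at h3
  -- elements of order `p` and `r`
  have hex : ∀ (s : ℕ) (g : G), s.Prime → g ∈ N → g ∉ W → RElem s g →
      ∃ j : J, orderOf j = s := by
    intro s g hs hgN hgW ⟨k, hk⟩
    haveI := Fact.mk hs
    refine exists_prime_orderOf_dvd_card' s ?_
    set j := π ⟨g, hgN⟩ with hj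
    have hjk : j ^ s ^ k = 1 := by
      rw [hj, ← map_pow, ← map_one π]
      exact congrArg π (Subtype.ext (by simpa using hk))
    obtain ⟨i, -, hi⟩ := (Nat.dvd_prime_pow hs).mp (orderOf_dvd_of_pow_eq_one hjk)
    rcases Nat.eq_zero_or_pos i with rfl | hi0
    · rw [pow_zero, orderOf_eq_one_iff] at hi
      exact absurd ((hπ ⟨g, hgN⟩).mp hi) hgW
    · exact (dvd_pow_self s hi0.ne').trans (hi ▸ orderOf_dvd_natCard j)
  have hne1 : ∀ (s : ℕ) (j : J), s.Prime → orderOf j = s → j ≠ 1 := fun s j hs hj e =>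
    hs.ne_one (by rw [← hj, e, orderOf_one])
  have hrelem : ∀ (s : ℕ) (j : J), orderOf j = s → RElem s j := fun s j hj =>
    ⟨1, by rw [pow_one, ← hj, pow_orderOf_eq_one]⟩
  obtain ⟨bp, hbp⟩ := hex p gp hp hgp hgpW hgpr
  obtain ⟨br, hbr⟩ := hex r gr hr hgr hgrW hgrr
  haveI := Fact.mk hp
  haveI := Fact.mk hr
  haveI : Fact (Nat.Prime 2) := ⟨Nat.prime_two⟩
  -- a nontrivial solvable normal subgroup
  obtain ⟨K, hKn, hK, hK1⟩ : ∃ K : Subgroup J, K.Normal ∧ Group.IsSolvable K ∧ K ≠ ⊥ := by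
    by_cases h2 : 2 ∣ Nat.card J
    · obtain ⟨t, ht⟩ := exists_prime_orderOf_dvd_card' (G := J) 2 h2
      by_cases hq2 : q = 2
      · subst hq2
        haveI := hkern p
        by_cases hK1 : ker p = ⊥
        · exfalso
          have hpq : p ≠ 2 := h.ne_q hpm
          have h1 := hinvprod p t hp (fun e => absurd e hpq) ht br
          rw [hK1, mem_bot, mul_inv_eq_one, mul_inv_eq_iff_eq_mul] at h1
          refine hne1 2 t Nat.prime_two ht (hP1 r br t hr hrm (hrelem r br hbr) (hne1 r br hr hbr) h1 ?_)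
          rw [ht]
          exact fun hd => hr2 ((Nat.prime_dvd_prime_iff_eq hr Nat.prime_two).mp hd)
        · refine ⟨ker p, hkern p, Cfsg.Agent.S0205.result ?_, hK1⟩
          rw [← Nat.not_even_iff_odd, even_iff_two_dvd]
          exact hkerdvd p 2 hp Nat.prime_two (h.ne_q hpm).symm (h.exp p hp hpm)
      · exfalso
        haveI := hkern q
        have h2m : 2 ∣ m := (hprimeJ 2 Nat.prime_two h2).resolve_right (Ne.symm hq2)
        obtain ⟨c, hc, hcm⟩ := exists_commuting (K := ker q) Nat.prime_two hr (Ne.symm hr2) ht hbr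
          (hkerdvd q 2 h.hq Nat.prime_two (Ne.symm hq2) h.exq)
          (hkerdvd q r h.hq hr (h.ne_q hrm) h.exq)
          (hinvprod q t h.hq (fun _ => hq2) ht)
        exact hne1 r c hr hc (hP1 2 t c Nat.prime_two h2m (hrelem 2 t ht) (hne1 2 t Nat.prime_two ht)
          hcm (hc ▸ fun hd => hr2 ((Nat.prime_dvd_prime_iff_eq Nat.prime_two hr).mp hd).symm))
    · refine ⟨⊤, inferInstance, Cfsg.Agent.S0205.result ?_, fun e => hne1 r br hr hbr ?_⟩
      · rw [Subgroup.card_top, ← Nat.not_even_iff_odd, even_iff_two_dvd]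
        exact h2
      · have := mem_top br
        rwa [e, mem_bot] at this
  obtain ⟨ℓ, D, hℓ, hDn, hD1, hℓJ, hDc, hDe⟩ := exists_abelian_normal hK hK1
  haveI := Fact.mk hℓ
  obtain ⟨a, haD, ha1⟩ := BlocksCharsC.exists_mem_ne_one hD1
  have haℓ : orderOf a = ℓ := orderOf_eq_prime (hDe a haD) ha1
  have hℓq : ℓ ∣ m ∨ ℓ = q := hprimeJ ℓ hℓ hℓJ
  -- a prime whose elements of `W` are moved
  obtain ⟨s, hs, hsℓ, hsq, ⟨z, hzW, hz, hzc⟩⟩ : ∃ s : ℕ, s.Prime ∧ ℓ ≠ s ∧ (s = q → ℓ ∣ m) ∧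
      ∃ z ∈ W, RElem s z ∧ z ∉ center G := by
    rcases hℓq with e | e
    · exact ⟨q, h.hq, h.ne_q e, fun _ => e, h.exq⟩
    · exact ⟨p, hp, e ▸ (h.ne_q hpm).symm, fun e' => absurd e' (h.ne_q hpm), h.exp p hp hpm⟩
  let v : W' := ⟨⟨z, le_normalizer hzW⟩, mem_subgroupOf.mpr hzW⟩
  let e : ℕ := PiClasses69.piExp G {s}
  have hes : ∀ w : G, RElem s (w ^ e) := fun w => by
    have h1 := PiClasses69.isPi_piPart {s} w
    exact ⟨_, by
      have h2 := Nat.eq_prime_pow_of_unique_prime_dvd (orderOf_pos (w ^ e)).ne'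
        (fun {d} hd hdd => h1 d hd hdd)
      rw [← h2]
      exact pow_orderOf_eq_one _⟩
  have hez : z ^ e = z := (PiClasses69.exists_exponent G {s}).choose_spec.1 z fun d hd hdd => by
    obtain ⟨k, hk⟩ := hz
    exact (Nat.prime_dvd_prime_iff_eq hd hs).mp (hd.dvd_of_dvd_pow (hdd.trans (orderOf_dvd_of_pow_eq_one hk)))
  let W0 : Subgroup W' := C0.comap (powMonoidHom e)
  have hW0 : ∀ j : J, j ≠ 1 → (s = q → ¬ q ∣ orderOf j) → ∀ w : W', φ j w = w → w ∈ W0 := by
    intro j hj hjq w hw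
    show w ^ e ∈ C0
    refine hsemi s j _ hs hjq hj ?_ (by rw [map_pow, hw])
    rw [map_pow]; exact hes _
  have hvW0 : v ∉ W0 := fun hv => hzc (by
    have h1 : ι (v ^ e) ∈ center G := hv
    rw [map_pow] at h1
    exact hez ▸ h1)
  have hvo : (orderOf v).Coprime ℓ := by
    obtain ⟨k, hk⟩ := hz
    refine Nat.Coprime.coprime_dvd_left (orderOf_dvd_of_pow_eq_one (n := s ^ k) ?_)
      (((Nat.coprime_primes hs hℓ).mpr (Ne.symm hsℓ)).pow_left _)
    exact Subtype.ext (Subtype.ext (by simpa [v] using hk))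
  -- `D` is cyclic
  have hDle : D ≤ zpowers a := by
    intro b hb
    by_contra hba
    refine hvW0 (mem_of_rank_two φ W0 (hDc a haD b hb) (hDe a haD) (hDe b hb) ha1 hba
      (fun i j hij w hw => hW0 _ hij (fun e hd => ?_) w hw) v hvo)
    have h1 : orderOf (a ^ i * b ^ j) ∣ ℓ :=
      orderOf_dvd_of_pow_eq_one (hDe _ (mul_mem (pow_mem haD i) (pow_mem hb j)))
    exact h.ne_q (hsq e) ((Nat.prime_dvd_prime_iff_eq h.hq hℓ).mp (hd.trans h1)).symm
  have hconja : ∀ x : J, ∃ i : ℕ, x * a * x⁻¹ = a ^ i := fun x => by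
    obtain ⟨i, hi⟩ := (isOfFinOrder_of_finite a).mem_powers_iff_mem_zpowers.mpr (hDle (hDn.conj_mem a haD x))
    exact ⟨i, hi.symm⟩
  rcases hℓq with hℓm | hℓq'
  · obtain ⟨s', b, hs', hs'm, hs'ℓ, hb⟩ : ∃ (s' : ℕ) (b : J), s'.Prime ∧ s' ∣ m ∧ ℓ ≠ s' ∧
        orderOf b = s' := by
      by_cases hlr : ℓ = r
      · exact ⟨p, bp, hp, hpm, fun e => hpr (e.symm.trans hlr), hbp⟩
      · exact ⟨r, br, hr, hrm, hlr, hbr⟩
    haveI := Fact.mk hs'
    obtain ⟨i, hi⟩ := hconja b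
    have hne : a ^ i ≠ a := fun e => hne1 s' b hs' hb (by
      refine hP1 ℓ a b hℓ hℓm (hrelem ℓ a haℓ) ha1 ?_ ?_
      · exact (mul_inv_eq_iff_eq_mul.mp (hi.trans e)).symm
      · rw [hb]
        exact fun hd => hs'ℓ ((Nat.prime_dvd_prime_iff_eq hℓ hs').mp hd))
    have hvℓ : v ^ ℓ ∈ W0 := by
      refine pow_mem_of_frobenius φ W0 haℓ hb hi hne (fun j hj hj1 w hw => hW0 j hj1 (fun e hd => ?_) w hw) v
      -- `closure {a, b}` has order prime to `q`
      set L : Subgroup J := D ⊔ zpowers b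
      haveI := hDn
      have hjL : j ∈ L := by
        refine (closure_le L).mpr ?_ hj
        rintro _ (rfl | rfl)
        · exact mem_sup_left haD
        · exact mem_sup_right (mem_zpowers _)
      have h1 : Nat.card L ∣ ℓ * s' := by
        rw [← relIndex_bot_left, ← relIndex_mul_relIndex ⊥ D L bot_le le_sup_left, relIndex_sup_left,
          relIndex_bot_left]
        refine mul_dvd_mul (haℓ ▸ Nat.card_zpowers a ▸ card_dvd_of_le hDle) ?_
        rw [← hb, ← Nat.card_zpowers]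
        exact relIndex_dvd_card _ _
      rcases h.hq.dvd_mul.mp ((hd.trans (Subgroup.orderOf_dvd_natCard L hjL)).trans h1) with e' | e'
      · exact h.ne_q hℓm ((Nat.prime_dvd_prime_iff_eq h.hq hℓ).mp e').symm
      · exact h.ne_q hs'm ((Nat.prime_dvd_prime_iff_eq h.hq hs').mp e').symm
    refine hvW0 ?_
    obtain ⟨k, hk⟩ := exists_pow_eq_self_of_coprime (n := ℓ) (x := v) hvo.symm
    exact hk ▸ pow_mem hvℓ k
  · subst hℓq'
    haveI := hDn
    set R := centralizer (D : Set J) with hR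
    haveI : R.Normal := Subgroup.normal_centralizer
    have hmemR : ∀ x : J, Commute x a → x ∈ R := fun x hx => mem_centralizer_iff.mpr fun d hd => by
      obtain ⟨i, rfl⟩ := mem_zpowers_iff.mp (hDle hd)
      exact (hx.zpow_right i).eq.symm
    have hnR : ∀ s' : ℕ, s'.Prime → s' ∣ m → ¬ s' ∣ Nat.card R := by
      intro s' hs' hs'm hd
      haveI := Fact.mk hs'
      obtain ⟨⟨x, hx⟩, hxo⟩ := exists_prime_orderOf_dvd_card' (G := R) s' hd
      rw [Subgroup.orderOf_mk] at hxo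
      refine ha1 (hP1 s' x a hs' hs'm (hrelem s' x hxo) (hne1 s' x hs' hxo)
        (mem_centralizer_iff.mp hx a haD).symm ?_)
      rw [haℓ]
      exact fun hd' => h.ne_q hs'm ((Nat.prime_dvd_prime_iff_eq hs' hℓ).mp hd')
    have hcomm : ∀ x : J, x * bp * x⁻¹ * bp⁻¹ ∈ R := by
      intro x
      refine hmemR _ ?_
      obtain ⟨i, hi⟩ := hconja x
      obtain ⟨k, hk⟩ := hconja bp
      refine mul_inv_eq_iff_eq_mul.mp ?_
      have e1 : ∀ n : ℕ, x * a ^ n * x⁻¹ = a ^ (i * n) := fun n => by rw [← conj_pow, hi, pow_mul]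
      have e2 : ∀ n : ℕ, bp * a ^ n * bp⁻¹ = a ^ (k * n) := fun n => by rw [← conj_pow, hk, pow_mul]
      obtain ⟨i', hi'⟩ := hconja x⁻¹
      rw [inv_inv] at hi'
      obtain ⟨k', hk'⟩ := hconja bp⁻¹
      rw [inv_inv] at hk'
      have e3 : ∀ n : ℕ, x⁻¹ * a ^ n * x = a ^ (i' * n) := fun n => by
        have := conj_pow (a := x⁻¹) (b := a) (i := n)
        rw [inv_inv, hi', ← pow_mul] at this
        exact this.symm
      calc x * bp * x⁻¹ * bp⁻¹ * a * (x * bp * x⁻¹ * bp⁻¹)⁻¹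
          = x * (bp * (x⁻¹ * (bp⁻¹ * a * bp) * x) * bp⁻¹) * x⁻¹ := by group
        _ = a ^ (i * (k * (i' * k'))) := by rw [hk', e3, e2, e1]
        _ = bp * (x * (x⁻¹ * (bp⁻¹ * a * bp) * x) * x⁻¹) * bp⁻¹ := by
          rw [hk', e3, e1, e2]; congr 1; ring
        _ = a := by group
    obtain ⟨c, hc, hcm⟩ := exists_commuting (K := R) hp hr hpr hbp hbr (hnR p hp hpm) (hnR r hr hrm) hcomm
    refine hne1 r c hr hc (hP1 p bp c hp hpm (hrelem p bp hbp) (hne1 p bp hp hbp) hcm ?_)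
    rw [hc]
    exact fun hd => hpr ((Nat.prime_dvd_prime_iff_eq hp hr).mp hd)

end Loc

end CfsgLib.CaminaRankTwo69
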