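/- Elements normalising an abelian centralizer from outside. -/
import Cfsg.Agent.CaminaRankTwo69.Local

set_option autoImplicit false

namespace CfsgLib.CaminaRankTwo69

open Subgroup CfsgLib.ClassCoprime69
open CfsgLib.TwoSizes69 (RElem Zr)
open scoped commutatorElement

variable {G : Type*} [Group G]

/-- Iterating a conjugation that multiplies by a commuting factor. -/
theorem pow_orderOf_eq_one_of_conj {x a c : G} (hxc : Commute x c) (h : x * a * x⁻¹ = c * a) :
    c ^ orderOf x = 1 := by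
  have h1 : ∀ k : ℕ, x ^ k * a * (x ^ k)⁻¹ = c ^ k * a := by
    intro k
    induction k with
    | zero => simp
    | succ k ih =>
      calc x ^ (k + 1) * a * (x ^ (k + 1))⁻¹ = x * (x ^ k * a * (x ^ k)⁻¹) * x⁻¹ := by
            rw [pow_succ']; group
        _ = x * c ^ k * x⁻¹ * (x * a * x⁻¹) := by rw [ih]; group
        _ = c ^ (k + 1) * a := by
          rw [h, (hxc.pow_right k).eq, mul_inv_cancel_right, ← mul_assoc, ← pow_succ]
  have := h1 (orderOf x)
  simpa [pow_orderOf_eq_one] using this.symm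

/-- An `r`-element and an `s`-element which are equal are trivial. -/
theorem eq_one_of_pow_orderOf {r : ℕ} (hr : r.Prime) {c x : G} (hc : RElem r c)
    (hx : ¬ r ∣ orderOf x) (h : c ^ orderOf x = 1) : c = 1 := by
  obtain ⟨k, hk⟩ := hc
  have h1 := pow_gcd_eq_one.mpr ⟨h, hk⟩
  rwa [((hr.coprime_iff_not_dvd.mpr hx).pow_left k).symm.gcd_eq_one, pow_one] at h1

variable [Finite G]

namespace Loc

variable {m q : ℕ} {W : Subgroup G}

theorem isPGroup_part (h : Loc G m q W) (r : ℕ) : IsPGroup r (h.part r) := fun a => by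
  obtain ⟨k, hk⟩ := a.2.2
  exact ⟨k, Subtype.ext (by simpa using hk)⟩

theorem card_part (h : Loc G m q W) {r : ℕ} [Fact r.Prime] : Nat.card (h.part r) = rp r W := by
  refine le_antisymm (card_le_rp (h.isPGroup_part r) fun a ha => ha.1) ?_
  obtain ⟨U, hUW, hU, hc⟩ := exists_rp (r := r) W
  exact hc ▸ card_le_of_le fun u hu => ⟨hUW hu, RElem.of_mem hU hu⟩

theorem mem_normalizer_part (h : Loc G m q W) {r : ℕ} {y : G} (hy : y ∈ normalizer (W : Set G)) :
    y ∈ normalizer (h.part r : Set G) := by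
  rw [mem_normalizer_iff]
  intro a
  refine ⟨fun ha => ⟨(mem_normalizer_iff.mp hy a).mp ha.1, RElem.conj ha.2 y⟩, fun ha => ?_⟩
  refine ⟨(mem_normalizer_iff.mp hy a).mpr ha.1, ?_⟩
  have := RElem.conj ha.2 y⁻¹
  rwa [show y⁻¹ * (y * a * y⁻¹) * y⁻¹⁻¹ = a by group] at this

/-- An `r`-element outside `W` normalising it. -/
theorem exists_outside (h : Loc G m q W) {r : ℕ} [Fact r.Prime] (hrm : r ∣ m) (hd : r ∣ W.index) :
    ∃ g : G, g ∈ normalizer (W : Set G) ∧ g ∉ W ∧ RElem r g := by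
  have hr : r.Prime := Fact.out
  obtain ⟨S, hUS⟩ := (h.isPGroup_part r).exists_le_sylow
  have hlt : (h.part r).subgroupOf (S : Subgroup G) < ⊤ := by
    refine lt_top_iff_ne_top.mpr fun e => S.not_dvd_index (hd.trans (index_dvd_of_le fun x hx => ?_))
    have h1 : x ∈ h.part r :=
      mem_subgroupOf.mp (e ▸ mem_top (⟨x, hx⟩ : (S : Subgroup G)) :
        (⟨x, hx⟩ : (S : Subgroup G)) ∈ (h.part r).subgroupOf (S : Subgroup G))
    exact h1.1
  haveI : Group.IsNilpotent (S : Subgroup G) := S.isPGroup'.isNilpotent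
  obtain ⟨g, hgn, hgU⟩ := SetLike.exists_of_lt ((Group.normalizerCondition_of_isNilpotent) _ hlt)
  have hgr : RElem r (g : G) := RElem.of_mem S.isPGroup' g.2
  have hgU' : (g : G) ∉ h.part r := fun hh => hgU (mem_subgroupOf.mpr hh)
  obtain ⟨z, hzW, hz, hzc⟩ := h.exp r hr hrm
  have hzU : z ∈ h.part r := ⟨hzW, hz⟩
  have hconj : (g : G) * z * (g : G)⁻¹ ∈ h.part r :=
    mem_subgroupOf.mp ((mem_normalizer_iff.mp hgn ⟨z, hUS hzU⟩).mp (mem_subgroupOf.mpr hzU))
  have hne : ∀ {a : G}, RElem r a → ¬ q ∣ orderOf a := fun {a} ha =>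
    not_dvd_of_rElem hr h.hq (h.ne_q hrm) ha
  refine ⟨g, ?_, fun hgW => hgU' ⟨hgW, hgr⟩, hgr⟩
  rw [← h.eq z hzW hzc (hne hz)]
  refine TwoSizes69.mem_normalizer_Cx ?_
  rw [h.eq z hzW hzc (hne hz),
    h.eq _ hconj.1 (fun hh => hzc (conj_mem_center_iff.mp hh)) (hne hconj.2)]

end Loc

end CfsgLib.CaminaRankTwo69
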