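/- Centralizers in groups with class sizes `1`, `m`, `m * n`, when none of class size `m` is abelian. -/
import Cfsg.Agent.CaminaRankTwo69.Basic
import Cfsg.Agent.S4033
import Cfsg.Agent.S4034

set_option autoImplicit false

namespace CfsgLib.CaminaRankTwo69

open Subgroup CfsgLib.ClassCoprime69
open CfsgLib.TwoSizes69 (RElem Zr)

variable {G : Type*} [Group G]

/-- Centralizers computed in a subgroup. -/
theorem centralizer_subgroupOf_singleton (A : Subgroup G) (w : A) :
    centralizer ({w} : Set A) = (centralizer ({(w : G)} : Set G)).subgroupOf A := by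
  ext x
  rw [mem_subgroupOf, mem_centralizer_singleton_iff, mem_centralizer_singleton_iff, Subtype.ext_iff,
    Subgroup.coe_mul, Subgroup.coe_mul]

variable [Finite G]

theorem carrier_ncard_eq (A : Subgroup G) (w : A) :
    (ConjClasses.mk w).carrier.ncard = (centralizer ({(w : G)} : Set G)).relIndex A := by
  rw [GroupBasics.card_carrier_eq_index_centralizer, centralizer_subgroupOf_singleton]
  rfl

/-- An `r`-element of `A` is conjugate in `A` into any Sylow `r`-subgroup of `A`. -/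
theorem exists_conj_mem_rp {r : ℕ} [Fact r.Prime] {A U : Subgroup G} (hUA : U ≤ A)
    (hc : Nat.card U = rp r A) {x : G} (hxA : x ∈ A) (hx : RElem r x) :
    ∃ c ∈ A, c * x * c⁻¹ ∈ U := by
  let T : Sylow r A := Sylow.ofCard (U.subgroupOf A)
    (by rw [Nat.card_congr (subgroupOfEquivOfLe hUA).toEquiv, hc]; rfl)
  obtain ⟨k, hk⟩ := hx
  obtain ⟨a, ha⟩ := exists_conj_mem_sylow (u := (⟨x, hxA⟩ : A)) ⟨k, Subtype.ext (by simpa using hk)⟩ T
  rw [Sylow.coe_ofCard, mem_subgroupOf] at ha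
  exact ⟨a, a.2, ha⟩

theorem rp_eq_card_sylow {r : ℕ} [Fact r.Prime] {A : Subgroup G} (Q : Sylow r G)
    (hQ : (Q : Subgroup G) ≤ A) : Nat.card (Q : Subgroup G) = rp r A :=
  le_antisymm (card_le_rp Q.isPGroup' hQ)
    ((sylow_card_eq_rp Q).symm ▸ rp_le_of_dvd (card_dvd_of_le le_top))

/-- An element of a central factor. -/
theorem le_Cx_iff {A : Subgroup G} {w : G} :
    A ≤ centralizer ({w} : Set G) ↔ w ∈ centralizer (A : Set G) := by
  rw [mem_centralizer_iff]
  exact ⟨fun h a ha => (commute_of_mem (h ha)).eq, fun h a ha => mem_of_commute (h a ha)⟩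

/-- A primary part outside the centre of a subgroup. -/
theorem exists_primary_not_central {A : Subgroup G} {w : G} (hw : w ∈ A)
    (hwA : ¬ A ≤ centralizer ({w} : Set G)) :
    ∃ r : ℕ, r.Prime ∧ r ∣ orderOf w ∧ ∃ a ∈ A, a ∈ zpowers w ∧ RElem r a ∧
      ¬ A ≤ centralizer ({a} : Set G) := by
  obtain ⟨r, hr, a, ha, har, haK⟩ := exists_primary_not_mem (K := centralizer (A : Set G))
    (fun h => hwA (le_Cx_iff.mpr h))
  refine ⟨r, hr, ?_, a, zpowers_le.mpr hw ha, ha, har, fun h => haK (le_Cx_iff.mp h)⟩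
  obtain ⟨k, hk⟩ := har
  obtain ⟨j, -, hj⟩ := (Nat.dvd_prime_pow hr).mp (orderOf_dvd_of_pow_eq_one hk)
  have h1 : orderOf a ∣ orderOf w := by
    rw [← Nat.card_zpowers, ← Nat.card_zpowers]
    exact card_dvd_of_le (zpowers_le.mpr ha)
  rcases Nat.eq_zero_or_pos j with rfl | hj0
  · rw [pow_zero] at hj
    rw [orderOf_eq_one_iff.mp hj] at haK
    exact absurd (one_mem _) haK
  · exact (dvd_pow_self r hj0.ne').trans (hj ▸ h1)

namespace Hyp

variable {m n : ℕ}

theorem eq_Cx_of_le (h : Hyp G m n) {y z : G} (hy : cs y = m) (hz : z ∉ center G)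
    (hle : centralizer ({y} : Set G) ≤ centralizer ({z} : Set G)) :
    centralizer ({y} : Set G) = centralizer ({z} : Set G) :=
  eq_of_cs_eq hle (hy.trans (h.eq_m_of_dvd hz (hy ▸ cs_dvd_of_le hle)).symm)

theorem relIndex_eq_n (h : Hyp G m n) {y w : G} {r : ℕ} (hr : r.Prime) (hy : RElem r y)
    (hym : cs y = m) (hw : w ∈ centralizer ({y} : Set G)) (hwr : ¬ r ∣ orderOf w)
    (hwA : ¬ centralizer ({y} : Set G) ≤ centralizer ({w} : Set G)) :
    (centralizer ({w} : Set G)).relIndex (centralizer ({y} : Set G)) = n :=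
  (h.relIndex_cases hr hy hym hw hwr).resolve_left fun e => hwA (relIndex_eq_one.mp e)

/-- The centralizer of a `q`-element of class size `m` is abelian if its `q'`-elements are central. -/
theorem comm_of_central (h : Hyp G m n) {q : ℕ} [Fact q.Prime] {y : G} (hqn : q ∣ n) (hy : RElem q y)
    (hym : cs y = m)
    (hcen : ∀ w ∈ centralizer ({y} : Set G), ¬ q ∣ orderOf w →
      centralizer ({y} : Set G) ≤ centralizer ({w} : Set G)) :
    ∀ a ∈ centralizer ({y} : Set G), ∀ b ∈ centralizer ({y} : Set G), a * b = b * a := by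
  set A := centralizer ({y} : Set G) with hA
  by_contra hne
  push Not at hne
  obtain ⟨a, ha, b, hb, hab⟩ := hne
  obtain ⟨r, hr, -, u, huA, -, hur, hu⟩ := exists_primary_not_central (A := A) ha
    (fun hle => hab (commute_of_mem (hle hb)).eq.symm)
  obtain rfl : r = q := by
    by_contra hrq
    exact hu (hcen u huA (not_dvd_of_rElem hr Fact.out hrq hur))
  obtain ⟨p, hp, hpm⟩ := Nat.exists_prime_and_dvd h.hm.ne'
  haveI := Fact.mk hp
  have hpq : p ≠ r := fun e => h.not_dvd_n hp hpm (e ▸ hqn)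
  obtain ⟨z, hzA, hz, hzc⟩ := h.exists_p_mem_Cx hpm y
  have hzq : ¬ r ∣ orderOf z := not_dvd_of_rElem hp Fact.out hpq hz
  have hzC : A = centralizer ({z} : Set G) := h.eq_Cx_of_le hym hzc (hcen z hzA hzq)
  obtain ⟨Q, -, hQA⟩ := GroupBasics.exists_sylow_le (p := r) (H := A) (Q := ⊥)
    (show ¬ r ∣ cs y from hym ▸ h.not_dvd_m Fact.out hqn) IsPGroup.of_bot bot_le
  -- class size `m`
  have key : ∀ v : G, RElem r v → cs v = m → ∃ c : G, centralizer ({c * v * c⁻¹} : Set G) = A := by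
    intro v hv hvm
    obtain ⟨Q', -, hQ'⟩ := GroupBasics.exists_sylow_le (p := r) (H := centralizer ({v} : Set G)) (Q := ⊥)
      (show ¬ r ∣ cs v from hvm ▸ h.not_dvd_m Fact.out hqn) IsPGroup.of_bot bot_le
    obtain ⟨c, hc⟩ := MulAction.exists_smul_eq G Q' Q
    refine ⟨c, ?_⟩
    have hQc : (Q : Subgroup G) ≤ centralizer ({c * v * c⁻¹} : Set G) := by
      rw [← hc, Sylow.coe_subgroup_smul]
      rintro _ ⟨x, hx, rfl⟩
      exact conj_mem_Cx_conj (hQ' hx)
    have hvA : c * v * c⁻¹ ∈ A := hQA (mem_sylow_of_centralizes (RElem.conj hv c) Q hQc)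
    refine (h.eq_Cx_of_le hym (fun hh => h.not_center_of_m hvm (conj_mem_center_iff.mp hh))
      (le_of_rp fun t ht => ?_)).symm
    haveI := Fact.mk ht
    by_cases htr : t = r
    · subst htr
      exact ⟨Q, le_inf hQA hQc, rp_eq_card_sylow Q hQA⟩
    · obtain ⟨U, hUA, hU, hUc⟩ := exists_rp (r := t) A
      refine ⟨U, le_inf hUA fun x hx => ?_, hUc⟩
      exact comm_symm (hcen x (hUA hx)
        (not_dvd_of_rElem ht Fact.out htr (RElem.of_mem hU hx)) hvA)
  have huc : u ∉ center G := fun hh => hu fun x _ => mem_of_commute (mem_center_iff.mp hh x)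
  have humn : cs u = m * n := by
    refine (h.cases huc).resolve_left fun hum => hu ?_
    obtain ⟨c, hc⟩ := key u hur hum
    have h1 : c * z * c⁻¹ ∈ A :=
      hc ▸ conj_mem_Cx_conj (comm_symm (hzC ▸ huA : u ∈ centralizer ({z} : Set G)))
    have h2 := h.eq_Cx_of_le hym (fun hh => hzc (conj_mem_center_iff.mp hh))
      (hcen _ h1 (not_dvd_of_rElem hp Fact.out hpq (RElem.conj hz c)))
    intro x hx
    rw [hzC] at hx
    have h3 : c * x * c⁻¹ ∈ A := h2.ge (conj_mem_Cx_conj hx)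
    rw [← hc] at h3
    exact conj_mem_Cx_conj_iff.mp h3
  obtain ⟨g, hg⟩ := exists_not_conj_mem (H := A)
    fun e => h.not_center_of_m hym (Cx_eq_top_iff.mp e)
  obtain ⟨v, hvg, hv, hvc⟩ := h.exists_q_mem_Cx hur humn g
  rcases h.cases hvc with hvm | hvm
  · obtain ⟨c, hc⟩ := key v hv hvm
    exact hg c (hc ▸ conj_mem_Cx_conj (comm_symm hvg))
  · obtain ⟨c, hc⟩ := exists_conj_mem_sylow hv Q
    refine hg c ?_
    rw [hzC]
    refine h.Cx_le_of_mn ((cs_conj c v).trans hvm) (commute_of_mem (hzC ▸ hQA hc))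
      (coprime_of_rElem Fact.out (RElem.conj hv c) hzq) (conj_mem_Cx_conj (comm_symm hvg))

/-- Two relative class sizes in the centralizer of an element of class size `m`. -/
theorem twoSizes (h : Hyp G m n) {r : ℕ} [Fact r.Prime] {y w : G} (hy : RElem r y) (hym : cs y = m)
    (hw : w ∈ centralizer ({y} : Set G)) (hwr : ¬ r ∣ orderOf w)
    (hwA : ¬ centralizer ({y} : Set G) ≤ centralizer ({w} : Set G)) :
    (∃ k : ℕ, n = r ^ k) ∨ ∃ t : ℕ, t.Prime ∧ t ≠ r ∧ ∃ B ≤ centralizer ({y} : Set G),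
      (∀ b ∈ B, centralizer ({y} : Set G) ≤ centralizer ({b} : Set G)) ∧
      B.relIndex (centralizer ({y} : Set G)) =
        rp r (centralizer ({y} : Set G)) * rp t (centralizer ({y} : Set G)) := by
  classical
  have hr : r.Prime := Fact.out
  set A := centralizer ({y} : Set G) with hA
  have hwn := h.relIndex_eq_n hr hy hym hw hwr hwA
  have hcop : ∀ x : A, (orderOf x).Coprime r → ¬ r ∣ orderOf (x : G) := fun x hx hd => by
    rw [Subgroup.orderOf_coe] at hd
    exact hr.ne_one (Nat.eq_one_of_dvd_coprimes hx hd dvd_rfl)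
  have hwcop : (orderOf (⟨w, hw⟩ : A)).Coprime r := by
    rw [Subgroup.orderOf_mk]
    exact (hr.coprime_iff_not_dvd.mpr hwr).symm
  have hrange : (Set.range fun x : {x : A // (orderOf x).Coprime r} =>
      (ConjClasses.mk (x : A)).carrier.ncard) = {1, n} := by
    refine Set.Subset.antisymm ?_ ?_
    · rintro _ ⟨⟨x, hx⟩, rfl⟩
      show (ConjClasses.mk x).carrier.ncard ∈ ({1, n} : Set ℕ)
      rw [carrier_ncard_eq]
      exact h.relIndex_cases hr hy hym x.2 (hcop x hx)
    · rintro _ (rfl | rfl)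
      · refine ⟨⟨1, by simp⟩, ?_⟩
        show (ConjClasses.mk (1 : A)).carrier.ncard = 1
        rw [carrier_ncard_eq, relIndex_eq_one]
        exact fun x _ => mem_of_commute (Commute.one_right x)
      · exact ⟨⟨⟨w, hw⟩, hwcop⟩, (carrier_ncard_eq A ⟨w, hw⟩).trans hwn⟩
  rcases Cfsg.Agent.S4033.result (G := A) (p := r) hr (by rw [hrange]; exact Set.ncard_pair h.hn.ne)
    with ⟨H, hH, hHr, hk⟩ | ⟨t, ht, P, Q, B, htr, hB, hcard, hnorm, hinf, hsup⟩
  · obtain ⟨k, hk'⟩ := (Cfsg.Agent.S4034.result hr).mpr ⟨H, hH, hHr, hk⟩ ⟨w, hw⟩ hwcop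
    rw [carrier_ncard_eq, hwn] at hk'
    exact Or.inl ⟨k, hk'⟩
  · refine Or.inr ⟨t, ht.out, htr, B.map A.subtype, map_subtype_le B, ?_, ?_⟩
    · rintro _ ⟨b, hb, rfl⟩ a ha
      exact mem_of_commute (congrArg Subtype.val (mem_center_iff.mp (hB hb) ⟨a, ha⟩))
    · rw [relIndex, subgroupOf, comap_map_eq_self_of_injective A.subtype_injective]
      haveI : B.Normal := ⟨fun b hb a => by rwa [mem_center_iff.mp (hB hb) a, mul_inv_cancel_right]⟩
      rw [← relIndex_top_right, ← hsup, relIndex_sup_right, ← inf_relIndex_right, inf_comm, hinf,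
        relIndex_bot_left, hcard, P.card_eq_multiplicity, Q.card_eq_multiplicity]
      rfl

/-- Consequences of the second case of `twoSizes`. -/
theorem twoSizes_facts (h : Hyp G m n) {r t : ℕ} [Fact r.Prime] {y w : G} (hy : RElem r y)
    (hym : cs y = m) (hw : w ∈ centralizer ({y} : Set G)) (hwr : ¬ r ∣ orderOf w)
    (hwA : ¬ centralizer ({y} : Set G) ≤ centralizer ({w} : Set G)) {B : Subgroup G}
    (hB : B ≤ centralizer ({y} : Set G))
    (hBc : ∀ b ∈ B, centralizer ({y} : Set G) ≤ centralizer ({b} : Set G))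
    (hidx : B.relIndex (centralizer ({y} : Set G)) =
      rp r (centralizer ({y} : Set G)) * rp t (centralizer ({y} : Set G))) (ht : t.Prime) :
    (∃ i j : ℕ, n ∣ r ^ i * t ^ j) ∧ ∀ x ∈ centralizer ({y} : Set G), ¬ r ∣ orderOf x →
      ¬ t ∣ orderOf x → centralizer ({y} : Set G) ≤ centralizer ({x} : Set G) := by
  set A := centralizer ({y} : Set G) with hA
  refine ⟨⟨(Nat.card A).factorization r, (Nat.card A).factorization t, ?_⟩, fun x hx hxr hxt => ?_⟩
  · show n ∣ rp r A * rp t A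
    rw [← hidx, ← h.relIndex_eq_n Fact.out hy hym hw hwr hwA, ← inf_relIndex_right]
    refine relIndex_dvd_of_le_left A (le_inf (fun b hb => ?_) hB)
    exact comm_symm (hBc b hb hw)
  · haveI : (B.subgroupOf A).Normal := ⟨fun b hb a => by
      rw [mem_subgroupOf] at hb ⊢
      push_cast
      rwa [(commute_of_mem (hBc b hb a.2)).eq, mul_inv_cancel_right]⟩
    refine hBc x (mem_subgroupOf.mp (PTools69.mem_of_pow_mem (g := (⟨x, hx⟩ : A)) ?_
      (pow_index_mem (B.subgroupOf A) _)))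
    rw [Subgroup.orderOf_mk, show (B.subgroupOf A).index = rp r A * rp t A from hidx]
    exact Nat.Coprime.mul_left (((Fact.out : r.Prime).coprime_iff_not_dvd.mpr hxr).pow_left _)
      ((ht.coprime_iff_not_dvd.mpr hxt).pow_left _)

/-- `n` is a power of `q` if some `q'`-element of `C(y)` is not central there. -/
theorem n_eq_pow (h : Hyp G m n) {q : ℕ} [Fact q.Prime] {y w : G} (hqn : q ∣ n) (hy : RElem q y)
    (hym : cs y = m) (hw : w ∈ centralizer ({y} : Set G)) (hwq : ¬ q ∣ orderOf w)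
    (hwA : ¬ centralizer ({y} : Set G) ≤ centralizer ({w} : Set G)) : ∃ b : ℕ, n = q ^ b := by
  have hq : q.Prime := Fact.out
  set A := centralizer ({y} : Set G) with hA
  obtain ⟨p, hp, hpm⟩ := Nat.exists_prime_and_dvd h.hm.ne'
  haveI := Fact.mk hp
  have hpn := h.not_dvd_n hp hpm
  have hpq : p ≠ q := fun e => hpn (e ▸ hqn)
  by_cases hex : ∃ z ∈ A, RElem p z ∧ ¬ A ≤ centralizer ({z} : Set G)
  · obtain ⟨z, hzA, hz, hznc⟩ := hex
    have hzq := not_dvd_of_rElem hp hq hpq hz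
    rcases h.twoSizes hy hym hzA hzq hznc with hk | ⟨t, ht, -, B, hB, hBc, hidx⟩
    · exact hk
    obtain ⟨⟨i, j, hd⟩, hcen⟩ := h.twoSizes_facts hy hym hzA hzq hznc hB hBc hidx ht
    have htp : t = p := by
      by_contra htp
      exact hznc (hcen z hzA hzq (not_dvd_of_rElem hp ht (Ne.symm htp) hz))
    subst htp
    have h1 : n ∣ q ^ i :=
      (Nat.Coprime.pow_right j (hp.coprime_iff_not_dvd.mpr hpn).symm).dvd_of_dvd_mul_right hd
    obtain ⟨b, -, hb⟩ := (Nat.dvd_prime_pow hq).mp h1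
    exact ⟨b, hb⟩
  · push Not at hex
    obtain ⟨z, hzA, hz, hzc⟩ := h.exists_p_mem_Cx hpm y
    have hzC : A = centralizer ({z} : Set G) := h.eq_Cx_of_le hym hzc (hex z hzA hz)
    have hzm : cs z = m := by
      rw [cs, ← hzC]; exact hym
    obtain ⟨s, hs, hsd, a, haA, -, has, hanc⟩ := exists_primary_not_central hw hwA
    have hsp : s ≠ p := fun e => hanc (hex a haA (e ▸ has))
    have hsp' := not_dvd_of_rElem hs hp hsp has
    rw [hzC] at haA hanc
    rcases h.twoSizes hz hzm haA hsp' hanc with ⟨k, hk⟩ | ⟨t, ht, -, B, hB, hBc, hidx⟩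
    · exfalso
      rcases Nat.eq_zero_or_pos k with rfl | hk0
      · exact h.hn.ne' (hk.trans (pow_zero p))
      · exact hpn (hk ▸ dvd_pow_self p hk0.ne')
    obtain ⟨⟨i, j, hd⟩, -⟩ := h.twoSizes_facts hz hzm haA hsp' hanc hB hBc hidx ht
    have h1 : n ∣ t ^ j :=
      (Nat.Coprime.pow_right i (hp.coprime_iff_not_dvd.mpr hpn).symm).dvd_of_dvd_mul_left hd
    obtain rfl : q = t := (Nat.prime_dvd_prime_iff_eq hq ht).mp (hq.dvd_of_dvd_pow (hqn.trans h1))
    obtain ⟨b, -, hb⟩ := (Nat.dvd_prime_pow hq).mp h1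
    exact ⟨b, hb⟩

end Hyp

/-- The situation where no centralizer of an element of class size `m` is abelian. -/
structure Bad (G : Type*) [Group G] (m n q : ℕ) : Prop where
  hyp : Hyp G m n
  hq : q.Prime
  pow : ∃ b : ℕ, n = q ^ b
  nonab : ∀ v : G, RElem q v → cs v = m → ∃ w ∈ centralizer ({v} : Set G),
    ¬ q ∣ orderOf w ∧ ¬ centralizer ({v} : Set G) ≤ centralizer ({w} : Set G)

namespace Bad

variable {m n q : ℕ}

omit [Finite G] in
theorem dvd_n (h : Bad G m n q) : q ∣ n := by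
  obtain ⟨b, hb⟩ := h.pow
  rcases Nat.eq_zero_or_pos b with rfl | hb0
  · exact absurd (hb.trans (pow_zero q)) h.hyp.hn.ne'
  · exact hb ▸ dvd_pow_self q hb0.ne'

omit [Finite G] in
theorem dvd_n_iff (h : Bad G m n q) {t : ℕ} (ht : t.Prime) (hd : t ∣ n) : t = q := by
  obtain ⟨b, hb⟩ := h.pow
  exact (Nat.prime_dvd_prime_iff_eq ht h.hq).mp (ht.dvd_of_dvd_pow (hb ▸ hd))

theorem exists_v (h : Bad G m n q) :
    ∃ (v : G) (Q : Sylow q G), RElem q v ∧ cs v = m ∧
      (Q : Subgroup G) ≤ centralizer ({v} : Set G) ∧ v ∈ (Q : Subgroup G) := by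
  haveI := Fact.mk h.hq
  obtain ⟨v, hv, hvm⟩ := h.hyp.exists_q_m h.dvd_n
  obtain ⟨Q, -, hQ⟩ := GroupBasics.exists_sylow_le (p := q) (H := centralizer ({v} : Set G)) (Q := ⊥)
    (show ¬ q ∣ cs v from hvm ▸ h.hyp.not_dvd_m h.hq h.dvd_n) IsPGroup.of_bot bot_le
  exact ⟨v, Q, hv, hvm, hQ, mem_sylow_of_centralizes hv Q hQ⟩

theorem sylow_central (h : Bad G m n q) {v x : G} (hv : RElem q v) (hvm : cs v = m) (Q : Sylow q G)
    (hQ : (Q : Subgroup G) ≤ centralizer ({v} : Set G)) (hx : x ∈ centralizer ({v} : Set G))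
    (hxq : ¬ q ∣ orderOf x) (hQx : (Q : Subgroup G) ≤ centralizer ({x} : Set G)) :
    centralizer ({v} : Set G) ≤ centralizer ({x} : Set G) := by
  haveI := Fact.mk h.hq
  by_contra hne
  have h1 := h.hyp.relIndex_eq_n h.hq hv hvm hx hxq hne
  exact Q.not_dvd_index (h.dvd_n.trans (h1 ▸ (relIndex_dvd_of_le_left _ hQx).trans
    ((dvd_mul_right _ _).trans (relIndex_mul_index hQ).dvd)))

/-- No element of primary order prime to `q` has class size `m`. -/
theorem false_of_primary_m (h : Bad G m n q) {t : ℕ} (ht : t.Prime) (htq : t ≠ q) {y : G}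
    (hy : RElem t y) (hym : cs y = m) : False := by
  haveI := Fact.mk h.hq
  haveI := Fact.mk ht
  obtain ⟨v, Q0, hv, hvm, hQ0, hv0⟩ := h.exists_v
  set A := centralizer ({y} : Set G) with hA
  obtain ⟨Q, -, hQA⟩ := GroupBasics.exists_sylow_le (p := q) (H := A) (Q := ⊥)
    (show ¬ q ∣ cs y from hym ▸ h.hyp.not_dvd_m h.hq h.dvd_n) IsPGroup.of_bot bot_le
  have claim : ∀ s : ℕ, s.Prime → s ≠ q → ∃ U : Subgroup G, U ≤ A ∧ IsPGroup s U ∧
      Nat.card U = rp s A ∧ ∀ u ∈ U, (Q : Subgroup G) ≤ centralizer ({u} : Set G) := by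
    intro s hs hsq
    haveI := Fact.mk hs
    obtain ⟨U, hUA, hU, hUc⟩ := exists_rp (r := s) A
    refine ⟨U, hUA, hU, hUc, ?_⟩
    by_cases hall : ∀ x ∈ A, ¬ t ∣ orderOf x → A ≤ centralizer ({x} : Set G)
    · intro u hu x hx
      by_cases hst : s = t
      · have hxt : ¬ t ∣ orderOf x :=
          not_dvd_of_rElem h.hq ht htq.symm (RElem.of_mem Q.isPGroup' hx)
        exact comm_symm (hall x (hQA hx) hxt (hUA hu))
      · exact hall u (hUA hu) (not_dvd_of_rElem hs ht hst (RElem.of_mem hU hu)) (hQA hx)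
    push Not at hall
    obtain ⟨w, hwA, hwt, hwnc⟩ := hall
    rcases h.hyp.twoSizes hy hym hwA hwt hwnc with ⟨k, hk⟩ | ⟨t', ht', -, B, hB, hBc, hidx⟩
    · exact absurd ((Nat.prime_dvd_prime_iff_eq h.hq ht).mp (h.hq.dvd_of_dvd_pow (hk ▸ h.dvd_n))) htq.symm
    obtain ⟨⟨i, j, hd⟩, hcen⟩ := h.hyp.twoSizes_facts hy hym hwA hwt hwnc hB hBc hidx ht'
    obtain rfl : t' = q := by
      rcases h.hq.dvd_mul.mp (h.dvd_n.trans hd) with e | e
      · exact absurd ((Nat.prime_dvd_prime_iff_eq h.hq ht).mp (h.hq.dvd_of_dvd_pow e)) htq.symm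
      · exact ((Nat.prime_dvd_prime_iff_eq h.hq ht').mp (h.hq.dvd_of_dvd_pow e)).symm
    by_cases hst : s = t
    swap
    · intro u hu x hx
      have hur := RElem.of_mem hU hu
      exact hcen u (hUA hu) (not_dvd_of_rElem hs ht hst hur) (not_dvd_of_rElem hs ht' hsq hur) (hQA hx)
    subst hst
    -- `Q` centralises the Sylow `t`-subgroup `U`
    set N := A ⊓ normalizer (U : Set G) with hN
    have hcA : Nat.card A = rp s A * rp t' A * Nat.card B := by
      rw [← hidx, mul_comm, ← relIndex_bot_left, ← relIndex_bot_left,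
        relIndex_mul_relIndex ⊥ B A bot_le hB]
    have hsB : ¬ s ∣ Nat.card B := by
      intro hd'
      have h1 := congrArg (fun k => k.factorization s) hcA
      simp only [rp] at h1
      rw [Nat.factorization_mul (mul_ne_zero (pow_ne_zero _ hs.pos.ne') (pow_ne_zero _ h.hq.pos.ne'))
        Nat.card_pos.ne', Nat.factorization_mul (pow_ne_zero _ hs.pos.ne') (pow_ne_zero _ h.hq.pos.ne'),
        Finsupp.add_apply, Finsupp.add_apply, Nat.factorization_pow, Nat.factorization_pow] at h1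
      have h2 := hs.factorization_pos_of_dvd Nat.card_pos.ne' hd'
      simp [hs.factorization, h.hq.factorization, Finsupp.smul_single] at h1
      omega
    have hUN : U ≤ N := le_inf hUA le_normalizer
    have hBN : B ≤ N := le_inf hB fun b hb => centralizer_le_normalizer _ <|
      mem_centralizer_iff.mpr fun u hu => (commute_of_mem (hBc b hb (hUA hu))).eq
    have hNidx : N.relIndex A ∣ rp t' A := by
      have hd1 : rp s A * Nat.card B ∣ Nat.card N := by
        refine Nat.Coprime.mul_dvd_of_dvd_of_dvd ?_ (hUc ▸ card_dvd_of_le hUN) (card_dvd_of_le hBN)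
        exact (hs.coprime_iff_not_dvd.mpr hsB).pow_left _
      obtain ⟨k, hk⟩ := hd1
      have h1 : N.relIndex A * Nat.card N = Nat.card A := by
        rw [← relIndex_bot_left, ← relIndex_bot_left, mul_comm,
          relIndex_mul_relIndex ⊥ N A bot_le inf_le_left]
      refine ⟨k, Nat.eq_of_mul_eq_mul_left (Nat.mul_pos (pow_pos hs.pos _) Nat.card_pos)
        (?_ : rp s A * Nat.card B * _ = rp s A * Nat.card B * _)⟩
      calc rp s A * Nat.card B * rp t' A = Nat.card A := by rw [hcA]; ring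
        _ = rp s A * Nat.card B * (N.relIndex A * k) := by rw [← h1, hk]; ring
    intro u hu x hx
    refine comm_symm (mem_of_commute ?_)
    suffices hQU : ∀ x ∈ (Q : Subgroup G), x ∈ centralizer (U : Set G) from
      ((mem_centralizer_iff.mp (hQU x hx)) u hu)
    let M : Subgroup (Q : Subgroup G) := (centralizer (U : Set G)).subgroupOf Q
    suffices hM : M = ⊤ from fun x hx => mem_subgroupOf.mp (hM ▸ mem_top (⟨x, hx⟩ : (Q : Subgroup G)))
    refine GroupBasics.eq_top_of_forall_conj_mem fun x => ?_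
    have hxt : ¬ s ∣ orderOf (x : G) :=
      not_dvd_of_rElem h.hq ht htq.symm (RElem.of_mem Q.isPGroup' x.2)
    -- a conjugate of `U` centralised by `x`
    obtain ⟨V, hV, hVp, hVc⟩ := exists_rp (r := s) (A ⊓ centralizer ({(x : G)} : Set G))
    have hVA : Nat.card V = rp s A := by
      rw [hVc]
      have hsn : ¬ s ∣ (centralizer ({(x : G)} : Set G)).relIndex A := by
        rcases h.hyp.relIndex_cases ht hy hym (hQA x.2) hxt with e | e <;> rw [e]
        · exact hs.not_dvd_one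
        · exact fun hd' => htq (h.dvd_n_iff hs hd')
      rw [← inf_relIndex_right, inf_comm] at hsn
      rw [rp, rp]
      congr 1
      have h2 : Nat.card A = (A ⊓ centralizer ({(x : G)} : Set G)).relIndex A *
          Nat.card (A ⊓ centralizer ({(x : G)} : Set G) : Subgroup G) := by
        rw [← relIndex_bot_left, ← relIndex_bot_left, mul_comm,
          relIndex_mul_relIndex ⊥ _ A bot_le inf_le_left]
      rw [h2, Nat.factorization_mul (show (A ⊓ centralizer ({(x : G)} : Set G)).relIndex A ≠ 0 from index_ne_zero_of_finite) Nat.card_pos.ne', Finsupp.add_apply,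
        Nat.factorization_eq_zero_of_not_dvd hsn, zero_add]
    let Us : Sylow s A := Sylow.ofCard (U.subgroupOf A)
      (by rw [Nat.card_congr (subgroupOfEquivOfLe hUA).toEquiv, hUc]; rfl)
    let Vs : Sylow s A := Sylow.ofCard (V.subgroupOf A)
      (by rw [Nat.card_congr (subgroupOfEquivOfLe (hV.trans inf_le_left)).toEquiv, hVA]; rfl)
    obtain ⟨c, hc⟩ := MulAction.exists_smul_eq A Us Vs
    -- `c` is a product of an element of `Q` and one normalising `U`
    have hcop : (N.relIndex A).Coprime ((Q : Subgroup G).relIndex A) := by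
      refine Nat.Coprime.coprime_dvd_left hNidx
        (((h.hq.coprime_iff_not_dvd).mpr fun hd' => ?_).pow_left _)
      exact Q.not_dvd_index (hd'.trans ((dvd_mul_right _ _).trans (relIndex_mul_index hQA).dvd))
    obtain ⟨k, hk, e, he, hce⟩ : ∃ k ∈ (Q : Subgroup G), ∃ e ∈ N, (c : G) = k * e := by
      let f : ↥(Q : Subgroup G) ⧸ (N ⊓ Q).subgroupOf Q → A ⧸ N.subgroupOf A :=
        Quotient.lift (fun a => ((⟨a, hQA a.2⟩ : A) : A ⧸ N.subgroupOf A)) (fun a b hab =>
          QuotientGroup.eq.mpr (mem_subgroupOf.mpr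
            (mem_inf.mp (mem_subgroupOf.mp (QuotientGroup.leftRel_apply.mp hab :
              a⁻¹ * b ∈ (N ⊓ Q).subgroupOf Q))).1))
      have hinj : Function.Injective f := by
        intro a b hab
        induction a using Quotient.inductionOn with | _ a => ?_
        induction b using Quotient.inductionOn with | _ b => ?_
        have h1 : (⟨a, hQA a.2⟩ : A)⁻¹ * ⟨b, hQA b.2⟩ ∈ N.subgroupOf A := QuotientGroup.eq.mp hab
        exact Quotient.sound (QuotientGroup.leftRel_apply.mpr (mem_subgroupOf.mpr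
          (mem_inf.mpr ⟨mem_subgroupOf.mp h1, (a⁻¹ * b).2⟩)))
      have hle : Nat.card (A ⧸ N.subgroupOf A) ≤
          Nat.card (↥(Q : Subgroup G) ⧸ (N ⊓ Q).subgroupOf Q) := by
        show N.relIndex A ≤ (N ⊓ Q).relIndex Q
        have h1 := relIndex_mul_relIndex (N ⊓ Q) N A inf_le_left inf_le_left
        have h2 := relIndex_mul_relIndex (N ⊓ Q) (Q : Subgroup G) A inf_le_right hQA
        exact Nat.le_of_dvd (Nat.pos_of_ne_zero (index_ne_zero_of_finite : ((N ⊓ (Q : Subgroup G)).subgroupOf (Q : Subgroup G)).index ≠ 0))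
          (hcop.dvd_of_dvd_mul_right ⟨(N ⊓ Q).relIndex N, by rw [h2, ← h1, mul_comm]⟩)
      obtain ⟨p, hp⟩ := (hinj.bijective_of_nat_card_le hle).2 (c : A ⧸ N.subgroupOf A)
      induction p using Quotient.inductionOn with | _ a => ?_
      exact ⟨a, a.2, (a : G)⁻¹ * c, mem_subgroupOf.mp (QuotientGroup.eq.mp hp), by group⟩
    refine ⟨⟨k, hk⟩⁻¹, mem_subgroupOf.mpr (mem_centralizer_iff.mpr fun u' hu' => ?_)⟩
    obtain ⟨-, hen⟩ := mem_inf.mp he
    have h1 : e⁻¹ * u' * e ∈ U := (mem_normalizer_iff''.mp hen u').mp hu'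
    have h2 : (⟨k * u' * k⁻¹, by
        exact mul_mem (mul_mem (hQA hk) (hUA hu')) (inv_mem (hQA hk))⟩ : A) ∈ (Vs : Subgroup A) := by
      rw [← hc, Sylow.coe_subgroup_smul]
      refine ⟨⟨e⁻¹ * u' * e, hUA h1⟩, mem_subgroupOf.mpr h1, Subtype.ext ?_⟩
      show (c : G) * (e⁻¹ * u' * e) * (c : G)⁻¹ = k * u' * k⁻¹
      rw [hce]; group
    rw [Sylow.coe_ofCard, mem_subgroupOf] at h2
    have h3 := commute_of_mem (mem_inf.mp (hV h2)).2
    show u' * (k⁻¹ * (x : G) * k⁻¹⁻¹) = k⁻¹ * (x : G) * k⁻¹⁻¹ * u'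
    rw [inv_inv]
    calc u' * (k⁻¹ * (x : G) * k) = k⁻¹ * (k * u' * k⁻¹ * x) * k := by group
      _ = k⁻¹ * ((x : G) * (k * u' * k⁻¹)) * k := by rw [h3.eq]
      _ = k⁻¹ * (x : G) * k * u' := by group
  -- transport to `C(v)`
  obtain ⟨w, hwA, hwq, hwnc⟩ := h.nonab v hv hvm
  obtain ⟨s, hs, hsd, a, haA, -, has, hanc⟩ := exists_primary_not_central hwA hwnc
  have hsq : s ≠ q := fun e => hwq (e ▸ hsd)
  haveI := Fact.mk hs
  obtain ⟨U, hUA, hU, hUc, hQU⟩ := claim s hs hsq
  obtain ⟨c, hc⟩ := MulAction.exists_smul_eq G Q Q0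
  set U' := U.map (MulAut.conj c).toMonoidHom with hU'
  have hU'Q : ∀ u ∈ U', (Q0 : Subgroup G) ≤ centralizer ({u} : Set G) := by
    rintro _ ⟨u, hu, rfl⟩
    rw [← hc, Sylow.coe_subgroup_smul]
    rintro _ ⟨x, hx, rfl⟩
    exact conj_mem_Cx_conj (hQU u hu hx)
  have hU'v : U' ≤ centralizer ({v} : Set G) := fun u hu => comm_symm (hU'Q u hu hv0)
  have hcard : Nat.card U' = rp s (centralizer ({v} : Set G)) := by
    rw [card_map_of_injective (MulAut.conj c).injective, hUc]
    refine rp_eq_of_card (Nat.eq_of_mul_eq_mul_right h.hyp.pos.1 ?_)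
    calc Nat.card A * m = Nat.card A * cs y := by rw [hym]
      _ = Nat.card G := Subgroup.card_mul_index _
      _ = Nat.card (centralizer ({v} : Set G)) * cs v := (Subgroup.card_mul_index _).symm
      _ = _ := by rw [hvm]
  obtain ⟨d, hd, hdU⟩ := exists_conj_mem_rp hU'v hcard haA has
  have h4 := h.sylow_central hv hvm Q0 hQ0 (hU'v hdU)
    (not_dvd_of_rElem hs h.hq hsq (RElem.conj has d)) (hU'Q _ hdU)
  refine hanc fun x hx => ?_
  exact conj_mem_Cx_conj_iff.mp (h4 (mul_mem (mul_mem hd hx) (inv_mem hd)))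

/-- Noncentral `q'`-elements have class size `m * n`. -/
theorem cs_eq_mn (h : Bad G m n q) {x : G} (hx : x ∉ center G) (hxq : ¬ q ∣ orderOf x) :
    cs x = m * n := by
  obtain ⟨t, ht, a, ha, hat, hac⟩ := exists_primary_not_mem hx
  haveI := Fact.mk ht
  have htq : t ≠ q := by
    rintro rfl
    refine hac ?_
    rw [hat.eq_one fun hd => hxq (hd.trans ?_)]
    · exact one_mem _
    · rw [← Nat.card_zpowers, ← Nat.card_zpowers]
      exact card_dvd_of_le (zpowers_le.mpr ha)
  have h1 := (h.hyp.cases hac).resolve_left fun e => h.false_of_primary_m ht htq hat e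
  exact Nat.dvd_antisymm (h.hyp.dvd_mn x)
    (h1 ▸ cs_dvd_of_le (TwoSizes69.centralizer_le_of_mem_zpowers ha))

/-- The centralizer of a noncentral `q'`-element lies in that of a `q`-element of class size `m`. -/
theorem exists_v_mem (h : Bad G m n q) {x : G} (hx : x ∉ center G) (hxq : ¬ q ∣ orderOf x) :
    ∃ v ∈ centralizer ({x} : Set G), RElem q v ∧ cs v = m ∧
      centralizer ({x} : Set G) ≤ centralizer ({v} : Set G) := by
  haveI := Fact.mk h.hq
  have hxmn := h.cs_eq_mn hx hxq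
  obtain ⟨v, Q, hv, hvm, hQ, hvQ⟩ := h.exists_v
  have hfin : ∀ v' : G, v' ∈ centralizer ({x} : Set G) → RElem q v' →
      centralizer ({x} : Set G) ≤ centralizer ({v'} : Set G) := fun v' hv'x hv' =>
    h.hyp.Cx_le_of_mn hxmn (commute_of_mem hv'x).symm (coprime_of_rElem h.hq hv' hxq).symm
  obtain ⟨w, hwA, hwq, hwnc⟩ := h.nonab v hv hvm
  have hwc : w ∉ center G := fun hh => hwnc fun a _ => mem_of_commute (mem_center_iff.mp hh a)
  obtain ⟨u, hux, hu, huc⟩ := exists_noncentral_mem hv (h.hyp.not_center_of_m hvm)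
    (comm_symm hwA) (center_le_Cx w) (H := centralizer ({x} : Set G))
    (rp_le_of_dvd (rp_Cx_dvd (by rw [hxmn, h.cs_eq_mn hwc hwq])))
  rcases h.hyp.cases huc with hum | humn
  · exact ⟨u, hux, hu, hum, hfin u hux hu⟩
  · have h1 : centralizer ({u} : Set G) = centralizer ({x} : Set G) :=
      eq_of_cs_eq (h.hyp.Cx_le_of_mn humn (commute_of_mem hux) (coprime_of_rElem h.hq hu hxq))
        (humn.trans hxmn.symm)
    obtain ⟨a, ha⟩ := exists_conj_mem_sylow hu Q
    have hmem : a⁻¹ * v * a ∈ centralizer ({x} : Set G) := by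
      rw [← h1]
      have := conj_mem_Cx_conj (g := a⁻¹) (comm_symm (hQ ha))
      rwa [inv_inv, show a⁻¹ * (a * u * a⁻¹) * a = u by group] at this
    have hv' : RElem q (a⁻¹ * v * a) := by simpa using RElem.conj hv a⁻¹
    refine ⟨_, hmem, hv', ?_, hfin _ hmem hv'⟩
    simpa using (cs_conj a⁻¹ v).trans hvm

/-- Subgroups of order prime to `q` and prime power order in `C(v)` are abelian. -/
theorem comm_pSubgroup (h : Bad G m n q) {v : G} (hv : RElem q v) (hvm : cs v = m) {s : ℕ}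
    (hs : s.Prime) (hsq : s ≠ q) {U : Subgroup G} (hUv : U ≤ centralizer ({v} : Set G))
    (hU : IsPGroup s U) : ∀ a ∈ U, ∀ b ∈ U, a * b = b * a := by
  haveI := Fact.mk h.hq
  haveI := Fact.mk hs
  set A := centralizer ({v} : Set G) with hA
  obtain ⟨b, hb⟩ := h.pow
  obtain ⟨H, hH, hHq, k, hk⟩ := (Cfsg.Agent.S4034.result (G := A) h.hq).mp fun x hx => by
    rw [carrier_ncard_eq]
    have hxq : ¬ q ∣ orderOf (x : G) := fun hd => by
      rw [Subgroup.orderOf_coe] at hd
      exact h.hq.ne_one (Nat.eq_one_of_dvd_coprimes hx hd dvd_rfl)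
    rcases h.hyp.relIndex_cases h.hq hv hvm x.2 hxq with e | e
    · exact ⟨0, e⟩
    · exact ⟨b, e.trans hb⟩
  obtain ⟨R, hR⟩ := (hU.comap_of_injective A.subtype A.subtype_injective).exists_le_sylow
  obtain ⟨R', -, hR'⟩ := GroupBasics.exists_sylow_le (G := A) (p := s) (H := H) (Q := ⊥)
    (fun hd => hsq ((Nat.prime_dvd_prime_iff_eq hs h.hq).mp (hs.dvd_of_dvd_pow (hk ▸ hd))))
    IsPGroup.of_bot bot_le
  obtain ⟨c, hc⟩ := MulAction.exists_smul_eq A R' R
  haveI := hH
  intro a ha b hb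
  have ha' : (⟨a, hUv ha⟩ : A) ∈ (R : Subgroup A) := hR (mem_comap.mpr ha)
  have hb' : (⟨b, hUv hb⟩ : A) ∈ (R : Subgroup A) := hR (mem_comap.mpr hb)
  rw [← hc, Sylow.coe_subgroup_smul] at ha' hb'
  obtain ⟨a₀, ha₀, ea⟩ := ha'
  obtain ⟨b₀, hb₀, eb⟩ := hb'
  have e0 : a₀ * b₀ = b₀ * a₀ := congrArg Subtype.val (mul_comm' (⟨a₀, hR' ha₀⟩ : H) ⟨b₀, hR' hb₀⟩)
  have ea' : c * a₀ * c⁻¹ = ⟨a, hUv ha⟩ := ea
  have eb' : c * b₀ * c⁻¹ = ⟨b, hUv hb⟩ := eb
  have e1 : c * a₀ * c⁻¹ * (c * b₀ * c⁻¹) = c * b₀ * c⁻¹ * (c * a₀ * c⁻¹) := by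
    simp only [← MulAut.conj_apply, ← map_mul, e0]
  rw [ea', eb'] at e1
  exact congrArg Subtype.val e1

/-- The centralizer of a noncentral `q'`-element is abelian. -/
theorem Cx_comm (h : Bad G m n q) {x : G} (hx : x ∉ center G) (hxq : ¬ q ∣ orderOf x) :
    ∀ a ∈ centralizer ({x} : Set G), ∀ b ∈ centralizer ({x} : Set G), a * b = b * a := by
  haveI := Fact.mk h.hq
  obtain ⟨t, ht, y, hyx, hyt, hyc⟩ := exists_primary_not_mem hx
  haveI := Fact.mk ht
  have hyq : ¬ q ∣ orderOf y := fun hd => hxq (hd.trans (by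
    rw [← Nat.card_zpowers, ← Nat.card_zpowers]; exact card_dvd_of_le (zpowers_le.mpr hyx)))
  have hymn := h.cs_eq_mn hyc hyq
  have htq : t ≠ q := by
    rintro rfl
    rw [hyt.eq_one hyq] at hyc
    exact hyc (one_mem _)
  rw [h.hyp.eq_mn_of_le (TwoSizes69.centralizer_le_of_mem_zpowers hyx) hymn]
  set W := centralizer ({y} : Set G) with hW
  obtain ⟨v, -, hv, hvm, hWv⟩ := h.exists_v_mem hyc hyq
  have hcen : ∀ (s : ℕ) (u : G), s.Prime → s ≠ t → RElem s u → u ∈ W →
      W ≤ centralizer ({u} : Set G) := fun s u hs hst hu huW =>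
    h.hyp.Cx_le_of_mn hymn (commute_of_mem huW).symm
      (coprime_of_rElem ht hyt (not_dvd_of_rElem hs ht hst hu))
  obtain ⟨T, hTW, hT, hTc⟩ := exists_rp (r := t) W
  have hTab := h.comm_pSubgroup hv hvm ht htq (hTW.trans hWv) hT
  suffices hWW : W ≤ centralizer (W : Set G) from fun a ha b hb =>
    (mem_centralizer_iff.mp (hWW ha) b hb).symm
  refine le_of_rp fun s hs => ?_
  haveI := Fact.mk hs
  by_cases hst : s = t
  · subst hst
    refine ⟨T, le_inf hTW fun a ha => le_Cx_iff.mp (le_of_rp fun s' hs' => ?_), hTc⟩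
    haveI := Fact.mk hs'
    by_cases hst' : s' = s
    · subst hst'
      exact ⟨T, le_inf hTW fun b hb => mem_of_commute (hTab b hb a ha), hTc⟩
    · obtain ⟨U, hUW, hU, hUc⟩ := exists_rp (r := s') W
      exact ⟨U, le_inf hUW fun b hb =>
        comm_symm (hcen s' b hs' hst' (RElem.of_mem hU hb) (hUW hb) (hTW ha)), hUc⟩
  · obtain ⟨U, hUW, hU, hUc⟩ := exists_rp (r := s) W
    exact ⟨U, le_inf hUW fun a ha => le_Cx_iff.mp (hcen s a hs hst (RElem.of_mem hU ha) (hUW ha)), hUc⟩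

/-- Noncentral `q'`-elements of such a centralizer have the same centralizer. -/
theorem Cx_eq_of_mem (h : Bad G m n q) {x a : G} (hx : x ∉ center G) (hxq : ¬ q ∣ orderOf x)
    (ha : a ∈ centralizer ({x} : Set G)) (hac : a ∉ center G) (haq : ¬ q ∣ orderOf a) :
    centralizer ({a} : Set G) = centralizer ({x} : Set G) :=
  (eq_of_cs_eq (fun _ hb => mem_of_commute (h.Cx_comm hx hxq _ hb a ha))
    ((h.cs_eq_mn hx hxq).trans (h.cs_eq_mn hac haq).symm)).symm

end Bad

end CfsgLib.CaminaRankTwo69
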