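/- Some centralizer of index `m` is abelian. -/
import Cfsg.Agent.CaminaRankTwo69.Structure
import Cfsg.Agent.CaminaRankTwo69.Outside
import Cfsg.Agent.Solvable.Fitting
import Cfsg.Agent.S4364

set_option autoImplicit false

namespace CfsgLib.CaminaRankTwo69

open Subgroup CfsgLib.ClassCoprime69
open CfsgLib.TwoSizes69 (RElem Zr)
open scoped commutatorElement

variable {G : Type*} [Group G] [Finite G]

namespace Bad

variable {m n q : ℕ}

theorem loc (h : Bad G m n q) {x : G} (hx : x ∉ center G) (hxq : ¬ q ∣ orderOf x) :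
    Loc G m q (centralizer ({x} : Set G)) where
  hq := h.hq
  hqm := h.hyp.not_dvd_m h.hq h.dvd_n
  comm := h.Cx_comm hx hxq
  eq := fun a ha hac haq => h.Cx_eq_of_mem hx hxq ha hac haq
  semi := by
    intro u huW huc hu y hy hyq hyu
    set W := centralizer ({x} : Set G) with hW
    haveI := Fact.mk h.hq
    have hxmn := h.cs_eq_mn hx hxq
    have hux : Commute u x := commute_of_mem huW
    have hcop := coprime_of_rElem h.hq hu hxq
    rcases h.hyp.cases huc with hum | humn
    swap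
    · exact h.hyp.Cx_le_of_mn humn hux hcop (mem_of_commute hyu)
    have hWu : W ≤ centralizer ({u} : Set G) := h.hyp.Cx_le_of_mn hxmn hux.symm hcop.symm
    by_contra hyW
    obtain ⟨t, ht, a, ha, hat, haW⟩ := exists_primary_not_mem hyW
    haveI := Fact.mk ht
    have htq : t ≠ q := by
      rintro rfl
      rw [hat.eq_one fun hd => hyq (hd.trans ?_)] at haW
      · exact haW (one_mem _)
      · rw [← Nat.card_zpowers, ← Nat.card_zpowers]
        exact card_dvd_of_le (zpowers_le.mpr ha)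
    -- the `t`-part of `W` is a Sylow subgroup of `C(u)`
    obtain ⟨T, hTW, hT, hTc⟩ := exists_rp (r := t) W
    have hcomm := h.Cx_comm hx hxq
    have hTmem : ∀ b ∈ W, RElem t b → b ∈ T := by
      intro b hb hbt
      obtain ⟨c, hc, hcb⟩ := exists_conj_mem_rp hTW hTc hb hbt
      rwa [hcomm c hc b hb, mul_inv_cancel_right] at hcb
    have haN : a ∈ normalizer (W : Set G) := zpowers_le.mpr hy ha
    have haT : zpowers a ≤ normalizer (T : Set G) := zpowers_le.mpr <| by
      rw [mem_normalizer_iff]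
      intro b
      refine ⟨fun hb => hTmem _ ((mem_normalizer_iff.mp haN b).mp (hTW hb))
        (RElem.conj (RElem.of_mem hT hb) a), fun hb => ?_⟩
      refine hTmem _ ((mem_normalizer_iff.mp haN b).mpr (hTW hb)) ?_
      have := RElem.conj (RElem.of_mem hT hb) a⁻¹
      rwa [show a⁻¹ * (a * b * a⁻¹) * a⁻¹⁻¹ = b by group] at this
    have hV : IsPGroup t (zpowers a ⊔ T : Subgroup G) :=
      (TwoSizes69.isPGroup_zpowers hat).to_sup_of_normal_right' hT haT
    have h1 := card_le_rp hV (H := centralizer ({u} : Set G))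
      (sup_le (zpowers_le.mpr (zpowers_le.mpr (mem_of_commute hyu) ha)) (hTW.trans hWu))
    rw [rp_Cx_eq (r := t) (x := u) (y := x) (k := n) (by rw [hum, hxmn])
      (fun hd => htq (h.dvd_n_iff ht hd)), ← hTc] at h1
    have h2 : T = zpowers a ⊔ T := eq_of_le_of_card_ge le_sup_right h1
    exact haW (hTW (h2 ▸ mem_sup_left (mem_zpowers a)))
  exq := by
    obtain ⟨v, hv, hvq, hvm, -⟩ := h.exists_v_mem hx hxq
    exact ⟨v, hv, hvq, h.hyp.not_center_of_m hvm⟩
  exp := fun p hp hpm => by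
    haveI := Fact.mk hp
    exact h.hyp.exists_p_mem_Cx hpm x
  idx := fun t ht hd => by
    rw [show (centralizer ({x} : Set G)).index = m * n from h.cs_eq_mn hx hxq] at hd
    exact (ht.dvd_mul.mp hd).imp id (h.dvd_n_iff ht)

theorem false (h : Bad G m n q) : False := by
  classical
  haveI := Fact.mk h.hq
  obtain ⟨p, hp, hpm⟩ := Nat.exists_prime_and_dvd h.hyp.hm.ne'
  haveI := Fact.mk hp
  have hpn := h.hyp.not_dvd_n hp hpm
  have hpq : p ≠ q := fun e => hpn (e ▸ h.dvd_n)
  have hnq : ∀ {g : G}, RElem p g → ¬ q ∣ orderOf g := fun hg => not_dvd_of_rElem hp h.hq hpq hg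
  have hout : ∀ {x : G} (hx : x ∉ center G) (hxq : ¬ q ∣ orderOf x) {r : ℕ}, r.Prime → r ∣ m →
      ∃ g, g ∈ normalizer (centralizer ({x} : Set G) : Set G) ∧ g ∉ centralizer ({x} : Set G) ∧
        RElem r g := by
    intro x hx hxq r hr hrm
    haveI := Fact.mk hr
    exact (h.loc hx hxq).exists_outside hrm
      ((show (centralizer ({x} : Set G)).index = m * n from h.cs_eq_mn hx hxq) ▸ hrm.trans (dvd_mul_right m n))
  -- `m` is a power of `p`
  obtain ⟨e, he⟩ : ∃ e, m = p ^ e := by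
    refine ⟨_, Nat.eq_prime_pow_of_unique_prime_dvd h.hyp.pos.1.ne' fun {d} hd hdm => ?_⟩
    obtain ⟨w, -, hw, hwc⟩ := h.hyp.exists_p_mem_Cx hpm (1 : G)
    obtain ⟨g, hg, hgW, hgr⟩ := hout hwc (hnq hw) hd hdm
    obtain ⟨g', hg', hg'W, hg'r⟩ := hout hwc (hnq hw) hp hpm
    exact (h.loc hwc (hnq hw)).unique_prime hd hp hdm hpm hg hgW hgr hg' hg'W hg'r
  have hnc : ∀ {x g : G}, g ∉ centralizer ({x} : Set G) → g ∉ center G := fun hg hgc =>
    hg (center_le_Cx _ hgc)
  -- `C(x)` is never normal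
  have hnormal : ∀ {x : G}, x ∉ center G → ¬ q ∣ orderOf x →
      ¬ (centralizer ({x} : Set G)).Normal := by
    intro x hx hxq hN
    obtain ⟨g, hg, hgW, hgr⟩ := hout hx hxq hp hpm
    obtain ⟨v, hvg, hv, hvm, -⟩ := h.exists_v_mem (hnc hgW) (hnq hgr)
    have hvN : v ∈ normalizer (centralizer ({x} : Set G) : Set G) := by
      rw [normalizer_eq_top]; exact mem_top v
    by_cases hvW : v ∈ centralizer ({x} : Set G)
    · exact hgW ((h.loc hx hxq).semi v hvW (h.hyp.not_center_of_m hvm) hv g hg (hnq hgr)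
        (commute_of_mem hvg).symm)
    · refine hvW ((h.loc hx hxq).mem_of_commutator_mem hpm hg hgW hgr hvN
        (not_dvd_of_rElem h.hq hp hpq.symm hv) ?_)
      rw [(commute_of_mem hvg).eq.symm, mul_inv_cancel_right, mul_inv_cancel]
      exact one_mem _
  -- `O_p(G)` is central
  set S := Cfsg.pCore p G with hS
  haveI hSn : S.Normal := Solvable.pCore_normal p
  have hSp : IsPGroup p S := Solvable.isPGroup_pCore p
  have hScen : S ≤ center G := by
    by_contra hSc
    by_cases hz : ∃ z ∈ S, z ∉ center G ∧ S ≤ centralizer ({z} : Set G)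
    · obtain ⟨z, hzS, hzc, hzle⟩ := hz
      have hzq := hnq (RElem.of_mem hSp hzS)
      refine hnormal hzc hzq ⟨fun a ha g => ?_⟩
      have h1 : g * z * g⁻¹ ∈ S := hSn.conj_mem z hzS g
      rw [← h.Cx_eq_of_mem hzc hzq (hzle h1) (fun hh => hzc (conj_mem_center_iff.mp hh))
        (hnq (RElem.of_mem hSp h1))]
      exact conj_mem_Cx_conj ha
    push Not at hz
    obtain ⟨s, hsS, hsc, -, hsfix⟩ := exists_fixed_mod hSp le_rfl le_normalizer hSc
    have hsq := hnq (RElem.of_mem hSp hsS)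
    obtain ⟨v, hvs, hv, hvm, hsv⟩ := h.exists_v_mem hsc hsq
    have hSv : S ≤ centralizer ({v} : Set G) := by
      intro x hx
      set a := v * x * v⁻¹ * x⁻¹ with ha
      have hvx : v * x * v⁻¹ ∈ S := hSn.conj_mem x hx v
      have haS : a ∈ S := mul_mem hvx (inv_mem hx)
      have hsa : a ∈ centralizer ({s} : Set G) := by
        refine mem_of_commute (commutatorElement_eq_one_iff_commute.mp ?_).symm
        have h1 : ⁅s, v * x * v⁻¹⁆ = ⁅s, x⁆ := by
          have hvs' : v * s * v⁻¹ = s := mul_inv_eq_iff_eq_mul.mpr (commute_of_mem hvs).eq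
          calc ⁅s, v * x * v⁻¹⁆ = ⁅v * s * v⁻¹, v * x * v⁻¹⁆ := by rw [hvs']
            _ = v * ⁅s, x⁆ * v⁻¹ := by simp only [commutatorElement_def]; group
            _ = ⁅s, x⁆ := by rw [mem_center_iff.mp (hsfix x hx) v, mul_inv_cancel_right]
        rw [ha, TwoSizes69.comm_mul_right_central (hsfix _ (inv_mem hx)),
          TwoSizes69.comm_inv_right_central (hsfix x hx), h1, mul_inv_cancel]
      have hva : Commute v a := (commute_of_mem (hsv hsa)).symm
      have h2 := pow_orderOf_eq_one_of_conj hva (show v * x * v⁻¹ = a * x by rw [ha]; group)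
      have h3 : a = 1 := eq_one_of_pow_orderOf hp (RElem.of_mem hSp haS)
        (not_dvd_of_rElem h.hq hp hpq.symm hv) h2
      exact comm_symm (mem_of_commute (mul_inv_eq_iff_eq_mul.mp
        (show v * x * v⁻¹ = x from mul_inv_eq_one.mp h3)))
    exact hz s hsS hsc fun x hx => mem_of_commute (h.comm_pSubgroup hv hvm hp hpq hSv hSp x hx s hsS)
  -- the elements of class size `m`
  let D1 : Set G := {v | RElem q v ∧ cs v = m}
  have hconjD : ∀ {v : G}, v ∈ D1 → ∀ g : G, g * v * g⁻¹ ∈ D1 := fun hv g =>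
    ⟨RElem.conj hv.1 g, (cs_conj g _).trans hv.2⟩
  have hinCore : ∀ v ∈ D1, v ∈ Cfsg.pCore q G := by
    rintro v ⟨hv, hvm⟩
    set K := closure (Set.range fun g : G => g * v * g⁻¹) with hK
    haveI hKn : K.Normal := by
      have hle : ∀ g : G, K ≤ K.comap (MulAut.conj g).toMonoidHom := fun g => by
        rw [hK, closure_le]
        rintro _ ⟨k, rfl⟩
        exact subset_closure ⟨g * k, by show g * k * v * (g * k)⁻¹ = g * (k * v * k⁻¹) * g⁻¹; group⟩
      exact ⟨fun a ha g => hle g ha⟩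
    have hcomm : ∀ g k : G, Commute (g * v * g⁻¹) (k * v * k⁻¹) := by
      intro g k
      have hc := Cfsg.Agent.S4364.result p v ⟨e, hvm.trans he⟩ g k
      set c := g * v * g⁻¹ * (k * v * k⁻¹) * (g * v * g⁻¹)⁻¹ * (k * v * k⁻¹)⁻¹ with hcdef
      have hcc := hScen hc
      refine commutatorElement_eq_one_iff_commute.mp ?_
      rw [commutatorElement_def, ← hcdef]
      refine eq_one_of_pow_orderOf hp (RElem.of_mem hSp hc)
        (not_dvd_of_rElem h.hq hp hpq.symm (RElem.conj hv g)) ?_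
      refine pow_orderOf_eq_one_of_conj (a := k * v * k⁻¹) (mem_center_iff.mp hcc _) ?_
      rw [hcdef]; group
    haveI : IsMulCommutative K := Subgroup.isMulCommutative_closure (by
      rintro _ ⟨g, rfl⟩ _ ⟨k, rfl⟩; exact hcomm g k)
    have hKq : IsPGroup q K := by
      rintro ⟨a, ha⟩
      suffices hh : ∃ i, a ^ q ^ i = 1 by
        obtain ⟨i, hi⟩ := hh
        exact ⟨i, Subtype.ext (by simpa using hi)⟩
      induction ha using closure_induction with
      | mem a ha => obtain ⟨g, rfl⟩ := ha; exact RElem.conj hv g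
      | one => exact ⟨0, one_pow _⟩
      | mul a b ha hb e1 e2 =>
        obtain ⟨i, hi⟩ := e1
        obtain ⟨j, hj⟩ := e2
        refine ⟨i + j, ?_⟩
        have hab : Commute a b := congrArg Subtype.val (mul_comm' (⟨a, ha⟩ : K) ⟨b, hb⟩)
        rw [hab.mul_pow, pow_add, pow_mul, hi, one_pow, one_mul, mul_comm, pow_mul, hj, one_pow]
      | inv a _ e1 => obtain ⟨i, hi⟩ := e1; exact ⟨i, by rw [inv_pow, hi, inv_one]⟩
    exact Solvable.le_pCore hKq (subset_closure ⟨1, by simp⟩)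
  have hcomm : ∀ v ∈ D1, ∀ v' ∈ D1, Commute v v' := by
    rintro v hv v' ⟨hv', hv'm⟩
    obtain ⟨Q', -, hQ'⟩ := GroupBasics.exists_sylow_le (p := q) (H := centralizer ({v'} : Set G)) (Q := ⊥)
      (show ¬ q ∣ cs v' from hv'm ▸ h.hyp.not_dvd_m h.hq h.dvd_n) IsPGroup.of_bot bot_le
    exact commute_of_mem (hQ' (Solvable.pCore_le_sylow Q' (hinCore v hv)))
  set D := closure D1 with hD
  haveI : IsMulCommutative D := Subgroup.isMulCommutative_closure fun a ha b hb => hcomm a ha b hb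
  have hDab : ∀ a ∈ D, ∀ b ∈ D, Commute a b := fun a ha b hb =>
    congrArg Subtype.val (mul_comm' (⟨a, ha⟩ : D) ⟨b, hb⟩)
  have hDn : ∀ g : G, ∀ a ∈ D, g * a * g⁻¹ ∈ D := fun g => by
    have hle : D ≤ D.comap (MulAut.conj g).toMonoidHom := by
      rw [hD, closure_le]
      exact fun a ha => subset_closure (hconjD ha g)
    exact fun a ha => hle ha
  have hDq : ∀ a ∈ D, RElem q a := fun a ha => RElem.of_mem (Solvable.isPGroup_pCore (G := G) q)
    ((closure_le _).mpr hinCore ha)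
  -- no centralizer contains `D`
  have hX : ∀ {x : G}, x ∉ center G → ¬ q ∣ orderOf x → ¬ D ≤ centralizer ({x} : Set G) := by
    intro x hx hxq hle
    obtain ⟨g, hg, hgW, hgr⟩ := hout hx hxq hp hpm
    obtain ⟨v, hvg, hv, hvm, -⟩ := h.exists_v_mem (hnc hgW) (hnq hgr)
    exact hgW ((h.loc hx hxq).semi v (hle (subset_closure ⟨hv, hvm⟩)) (h.hyp.not_center_of_m hvm) hv
      g hg (hnq hgr) (commute_of_mem hvg).symm)
  have hDm : ∀ d ∈ D, d ∉ center G → cs d = m := by
    intro d hd hdc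
    refine (h.hyp.cases hdc).resolve_right fun hdmn => ?_
    obtain ⟨w, hwd, hw, hwc⟩ := h.hyp.exists_p_mem_Cx hpm d
    refine hX hwc (hnq hw) fun a ha => h.hyp.Cx_le_of_mn hdmn (commute_of_mem hwd).symm
      (coprime_of_rElem h.hq (hDq d hd) (hnq hw)) (mem_of_commute (hDab a ha d hd))
  -- a Sylow `p`-subgroup and a point fixed modulo the centre
  obtain ⟨P⟩ : Nonempty (Sylow p G) := inferInstance
  have hcard : ∀ d ∈ D, d ∉ center G →
      Nat.card ((P : Subgroup G) ⊓ centralizer ({d} : Set G) : Subgroup G) * m =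
        Nat.card (P : Subgroup G) := by
    intro d hd hdc
    have hidx : ((P : Subgroup G) ⊓ centralizer ({d} : Set G)).index = (P : Subgroup G).index * m := by
      have hcd : (centralizer ({d} : Set G)).index = m := hDm d hd hdc
      refine le_antisymm (index_inf_le.trans_eq (by rw [hcd])) (Nat.le_of_dvd
        (Nat.pos_of_ne_zero index_ne_zero_of_finite) (Nat.Coprime.mul_dvd_of_dvd_of_dvd ?_
          (index_dvd_of_le inf_le_left) (hcd ▸ index_dvd_of_le inf_le_right)))
      rw [he]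
      exact ((hp.coprime_iff_not_dvd.mpr P.not_dvd_index).pow_left _).symm
    have h1 := ((P : Subgroup G) ⊓ centralizer ({d} : Set G)).card_mul_index
    rw [hidx, ← (P : Subgroup G).card_mul_index, mul_comm _ m, ← mul_assoc] at h1
    exact Nat.eq_of_mul_eq_mul_right (Nat.pos_of_ne_zero index_ne_zero_of_finite) h1
  obtain ⟨w, -, hw, hwc⟩ := h.hyp.exists_p_mem_Cx hpm (1 : G)
  obtain ⟨c, hc⟩ := exists_conj_mem_sylow hw P
  obtain ⟨s, hsP, hsc, -, hsfix⟩ := exists_fixed_mod P.isPGroup' le_rfl le_normalizer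
    (fun hle => hwc (conj_mem_center_iff.mp (hle hc)))
  have hsr : RElem p s := RElem.of_mem P.isPGroup' hsP
  obtain ⟨v1, hv1s, hv1, hv1m, -⟩ := h.exists_v_mem hsc (hnq hsr)
  have hv1D : v1 ∈ D := subset_closure ⟨hv1, hv1m⟩
  obtain ⟨d, hdD, hds⟩ := SetLike.not_le_iff_exists.mp (hX hsc (hnq hsr))
  have hψD : ∀ a ∈ D, ⁅s, a⁆ ∈ D := fun a ha => mul_mem (hDn s a ha) (inv_mem ha)
  -- a commutator fixed by `s` is trivial
  have hkey : ∀ a ∈ D, ⁅s, a⁆ ∈ centralizer ({s} : Set G) → ⁅s, a⁆ = 1 := by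
    intro a ha hfix
    refine eq_one_of_pow_orderOf h.hq (hDq _ (hψD a ha)) (hnq hsr) ?_
    exact pow_orderOf_eq_one_of_conj (commute_of_mem hfix).symm (a := a)
      (by rw [commutatorElement_def]; group)
  set v2 := ⁅s, d⁆ with hv2
  have hv21 : v2 ≠ 1 := fun e' =>
    hds (mem_of_commute (commutatorElement_eq_one_iff_commute.mp e').symm)
  have hv2s : v2 ∉ centralizer ({s} : Set G) := fun hh => hv21 (hkey d hdD hh)
  have hv2D : v2 ∈ D := hψD d hdD
  have hv2c : v2 ∉ center G := fun hh => hv2s (center_le_Cx s hh)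
  set v3 := v1 * v2 with hv3
  have hv3D : v3 ∈ D := mul_mem hv1D hv2D
  have hv3c : v3 ∉ center G := fun hh => hv2s (by
    have := mul_mem (inv_mem hv1s) (center_le_Cx s hh)
    rwa [hv3, inv_mul_cancel_left] at this)
  set R := fun a : G => (P : Subgroup G) ⊓ centralizer ({a} : Set G) with hR
  have hle : R v3 ≤ R v1 ⊓ R v2 := by
    intro x hx
    obtain ⟨hxP, hx3⟩ := mem_inf.mp hx
    set c := x * s * x⁻¹ * s⁻¹ with hcdef
    have hcc : c ∈ center G := by
      have h1 := inv_mem (hsfix x hxP)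
      rw [commutatorElement_inv, commutatorElement_def] at h1
      exact h1
    have hxs : x * s * x⁻¹ = s * c := by
      rw [mem_center_iff.mp hcc s, hcdef]; group
    set v1' := x * v1 * x⁻¹
    set v2' := x * v2 * x⁻¹ with hv2'
    have hv1'D : v1' ∈ D := hDn x _ hv1D
    have hv1's : v1' ∈ centralizer ({s} : Set G) := by
      have h1 : v1' ∈ centralizer ({x * s * x⁻¹} : Set G) := conj_mem_Cx_conj hv1s
      rwa [hxs, Cx_mul_central s hcc] at h1
    set d' := x * d * x⁻¹ with hd'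
    have hd'D : d' ∈ D := hDn x _ hdD
    have h2 : v2' = ⁅s, d'⁆ := by
      calc v2' = ⁅x * s * x⁻¹, x * d * x⁻¹⁆ := by
            simp only [hv2', hv2, commutatorElement_def]; group
        _ = ⁅s * c, d'⁆ := by rw [hxs]
        _ = ⁅s, d'⁆ := by
          rw [TwoSizes69.comm_left_mul, commutatorElement_eq_one_iff_mul_comm.mpr
            (mem_center_iff.mp hcc d').symm, mul_one, mul_inv_cancel, one_mul]
    have h3 : v1' * v2' = v1 * v2 := by
      have h4 : x * (v1 * v2) * x⁻¹ = v1 * v2 := mul_inv_eq_iff_eq_mul.mpr (commute_of_mem hx3).eq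
      calc v1' * v2' = x * (v1 * v2) * x⁻¹ := by simp only [v1', hv2']; group
        _ = _ := h4
    have h5 : v1⁻¹ * v1' = ⁅s, d * d'⁻¹⁆ := by
      have hlin : ⁅s, d * d'⁻¹⁆ = v2 * v2'⁻¹ := by
        have e1 : ⁅s, d * d'⁻¹⁆ = v2 * (d * ⁅s, d'⁻¹⁆ * d⁻¹) := by
          rw [hv2]; simp only [commutatorElement_def]; group
        have e2 : ⁅s, d'⁻¹⁆ = d'⁻¹ * ⁅s, d'⁆⁻¹ * d' := by simp only [commutatorElement_def]; group
        rw [e1, (hDab d hdD _ (hψD _ (inv_mem hd'D))).eq, mul_inv_cancel_right, e2,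
          (hDab _ (inv_mem hd'D) _ (inv_mem (hψD _ hd'D))).eq, inv_mul_cancel_right, h2]
      rw [hlin, inv_mul_eq_iff_eq_mul, ← mul_assoc, ← h3, mul_inv_cancel_right]
    have h6 : v1' = v1 := by
      have h7 := hkey _ (mul_mem hdD (inv_mem hd'D)) (h5 ▸ mul_mem (inv_mem hv1s) hv1's)
      rw [← h5, inv_mul_eq_one] at h7
      exact h7.symm
    have h8 : v2' = v2 := by
      rw [h6] at h3; exact mul_left_cancel h3
    exact mem_inf.mpr ⟨mem_inf.mpr ⟨hxP, mem_of_commute (mul_inv_eq_iff_eq_mul.mp h6)⟩,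
      mem_inf.mpr ⟨hxP, mem_of_commute (mul_inv_eq_iff_eq_mul.mp h8)⟩⟩
  have hm0 := h.hyp.pos.1
  have e1 : R v3 = R v1 := eq_of_le_of_card_ge (hle.trans inf_le_left) (le_of_eq
    (Nat.eq_of_mul_eq_mul_right hm0
      ((hcard v1 hv1D (h.hyp.not_center_of_m hv1m)).trans (hcard v3 hv3D hv3c).symm)))
  have e2 : R v3 = R v2 := eq_of_le_of_card_ge (hle.trans inf_le_right) (le_of_eq
    (Nat.eq_of_mul_eq_mul_right hm0 ((hcard v2 hv2D hv2c).trans (hcard v3 hv3D hv3c).symm)))
  have hs1 : s ∈ R v1 := mem_inf.mpr ⟨hsP, comm_symm hv1s⟩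
  exact hv2s (comm_symm (mem_inf.mp (e2 ▸ e1.symm ▸ hs1 : s ∈ R v2)).2)

end Bad

theorem Hyp.exists_abelian {m n : ℕ} (h : Hyp G m n) :
    ∃ y : G, cs y = m ∧
      ∀ a ∈ centralizer ({y} : Set G), ∀ b ∈ centralizer ({y} : Set G), a * b = b * a := by
  by_contra hne
  push Not at hne
  obtain ⟨q, hq, hqn⟩ := Nat.exists_prime_and_dvd h.hn.ne'
  haveI := Fact.mk hq
  have hnonab : ∀ v : G, RElem q v → cs v = m → ∃ w ∈ centralizer ({v} : Set G),
      ¬ q ∣ orderOf w ∧ ¬ centralizer ({v} : Set G) ≤ centralizer ({w} : Set G) := by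
    intro v hv hvm
    by_contra hcen
    push Not at hcen
    obtain ⟨a, ha, b, hb, hab⟩ := hne v hvm
    exact hab (h.comm_of_central hqn hv hvm hcen a ha b hb)
  obtain ⟨v, hv, hvm⟩ := h.exists_q_m hqn
  obtain ⟨w, hw, hwq, hwA⟩ := hnonab v hv hvm
  exact Bad.false ⟨h, hq, h.n_eq_pow hqn hv hvm hw hwq hwA, hnonab⟩

end CfsgLib.CaminaRankTwo69
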