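/- Conclusions from an abelian centralizer of index `m`. -/
import Cfsg.Agent.CaminaRankTwo69.Outside
import Cfsg.Agent.S4127

set_option autoImplicit false

namespace CfsgLib.CaminaRankTwo69

open Subgroup CfsgLib.ClassCoprime69
open CfsgLib.TwoSizes69 (RElem Zr)
open scoped commutatorElement

variable {G : Type*} [Group G] [Finite G]

theorem card_Zr (r : ℕ) [Fact r.Prime] : Nat.card (Zr r G) = rp r (center G) := by
  refine le_antisymm (card_le_rp TwoSizes69.Zr_isPGroup (TwoSizes69.Zr_le_center r)) ?_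
  obtain ⟨U, hUW, hU, hc⟩ := exists_rp (r := r) (center G)
  exact hc ▸ card_le_of_le fun u hu => ⟨hUW hu, RElem.of_mem hU hu⟩

/-- Elements whose commutator with `x` lies in a central subgroup. -/
def commSub (x : G) (N : Subgroup G) (hN : ∀ a ∈ N, a ∈ center G) : Subgroup G where
  carrier := {y | ⁅x, y⁆ ∈ N}
  one_mem' := by
    show ⁅x, (1 : G)⁆ ∈ N
    rw [commutatorElement_one_right]; exact one_mem _
  mul_mem' := fun {a b} ha hb => by
    show ⁅x, a * b⁆ ∈ N
    rw [TwoSizes69.comm_mul_right_central (hN _ hb)]; exact mul_mem ha hb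
  inv_mem' := fun {a} ha => by
    show ⁅x, a⁻¹⁆ ∈ N
    rw [TwoSizes69.comm_inv_right_central (hN _ ha)]; exact inv_mem ha

namespace Hyp

variable {m n : ℕ}

/-- The conclusion. -/
def Concl (G : Type*) [Group G] (m n : ℕ) : Prop :=
  m.Prime ∧ m ∣ n - 1 ∧
    (∃ M : Subgroup G, M.Normal ∧ (M : Set G) = {x : G | cs x = 1 ∨ cs x = m} ∧ M.index = m ∧
      IsMulCommutative M) ∧
    (∃ N : Subgroup G, N.Normal ∧ (Nat.card N).Coprime m ∧ ∃ a : ℕ, N.index = m ^ a) ∧
    ∀ P : Sylow m G, Nat.card (commutator (P : Subgroup G)) = m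

theorem final (h : Hyp G m n) {y : G} (hym : cs y = m)
    (hAc : ∀ a ∈ centralizer ({y} : Set G), ∀ b ∈ centralizer ({y} : Set G), a * b = b * a) :
    Concl G m n := by
  classical
  set A := centralizer ({y} : Set G) with hA
  have hAidx : A.index = m := hym
  have hZA : center G ≤ A := center_le_Cx y
  have hAeq : ∀ a ∈ A, a ∉ center G → centralizer ({a} : Set G) = A := fun a ha hac => by
    have hle : A ≤ centralizer ({a} : Set G) := fun b hb => mem_of_commute (hAc b hb a ha)
    have h1 := h.eq_m_of_dvd hac ((cs_dvd_of_le hle).trans hym.dvd)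
    exact (eq_of_cs_eq hle (hym.trans h1.symm)).symm
  obtain ⟨q, hq, hqn⟩ := Nat.exists_prime_and_dvd h.hn.ne'
  haveI := Fact.mk hq
  -- a noncentral `q`-element of `A`
  obtain ⟨Q, -, hQA⟩ := GroupBasics.exists_sylow_le (p := q) (H := A) (Q := ⊥)
    (hAidx ▸ h.not_dvd_m hq hqn) IsPGroup.of_bot bot_le
  obtain ⟨u, huA, hu, huc⟩ : ∃ u ∈ A, RElem q u ∧ u ∉ center G := by
    obtain ⟨x, hx⟩ := h.exMN
    obtain ⟨w, hw, hwc⟩ := exists_rElem_noncentral (x := x) (hx ▸ hqn.trans (dvd_mul_left n m))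
    obtain ⟨c, hc⟩ := exists_conj_mem_sylow hw Q
    exact ⟨_, hQA hc, RElem.conj hw c, fun hh => hwc (conj_mem_center_iff.mp hh)⟩
  have hLoc : Loc G m q A :=
    { hq := hq
      hqm := h.not_dvd_m hq hqn
      comm := hAc
      eq := fun a ha hac _ => hAeq a ha hac
      semi := fun v hv hvc _ x _ _ hxv => (hAeq v hv hvc).le (mem_of_commute hxv)
      exq := ⟨u, huA, hu, huc⟩
      exp := fun p hp hpm => by
        haveI := Fact.mk hp
        exact h.exists_p_mem_Cx hpm y
      idx := fun t _ htd => Or.inl (hAidx ▸ htd) }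
  -- `m` is a power of a prime `p`
  obtain ⟨p, hp, hpm⟩ := Nat.exists_prime_and_dvd h.hm.ne'
  haveI := Fact.mk hp
  obtain ⟨g0, hg0, hg0A, hg0r⟩ := hLoc.exists_outside hpm (hAidx ▸ hpm)
  have huniq : ∀ {d : ℕ}, d.Prime → d ∣ m → d = p := fun {d} hd hdm => by
    haveI := Fact.mk hd
    obtain ⟨g, hg, hgA, hgr⟩ := hLoc.exists_outside hdm (hAidx ▸ hdm)
    exact hLoc.unique_prime hd hp hdm hpm hg hgA hgr hg0 hg0A hg0r
  obtain ⟨e, he⟩ : ∃ e, m = p ^ e := ⟨_, Nat.eq_prime_pow_of_unique_prime_dvd h.pos.1.ne' huniq⟩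
  have hpn : ¬ p ∣ n := h.not_dvd_n hp hpm
  have hqp : q ≠ p := fun e' => hpn (e' ▸ hqn)
  -- the normal `p`-complement
  obtain ⟨w, hwA, hw, hwc⟩ := h.exists_p_mem_Cx hpm y
  obtain ⟨P0, M, hM, hcompl⟩ := Cfsg.Agent.S4127.result p e (fun x hx => by
      have h1 : p ^ (e + 1) ∣ m * n := hx.trans (h.dvd_mn x)
      have h2 := ((hp.coprime_iff_not_dvd.mpr hpn).pow_left (e + 1)).dvd_of_dvd_mul_right h1
      rw [he, Nat.pow_dvd_pow_iff_le_right hp.one_lt] at h2
      omega)
    ⟨w, by
      obtain ⟨k, hk⟩ := hw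
      obtain ⟨j, -, hj⟩ := (Nat.dvd_prime_pow hp).mp (orderOf_dvd_of_pow_eq_one hk)
      exact ⟨j, hj⟩, by
      show cs w = p ^ e
      rw [← he, cs, hAeq w hwA hwc]; exact hym⟩
  haveI := hM
  have hMidx : M.index = Nat.card (P0 : Subgroup G) := IsComplement'.index_eq_card hcompl.symm
  obtain ⟨sP, hsP⟩ := IsPGroup.iff_card.mp P0.isPGroup'
  have hMp : ¬ p ∣ Nat.card M := fun hd => by
    have h1 := P0.not_dvd_index
    rw [IsComplement'.index_eq_card hcompl] at h1
    exact h1 hd
  have hmemM : ∀ x : G, ¬ p ∣ orderOf x → x ∈ M := fun x hx => by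
    refine PTools69.mem_of_pow_mem ?_ (pow_index_mem M x)
    rw [hMidx, hsP]
    exact (hp.coprime_iff_not_dvd.mpr hx).pow_left _
  have hMA : M ≤ A := by
    refine le_of_rp fun t ht => ?_
    haveI := Fact.mk ht
    by_cases htp : t = p
    · subst htp
      exact ⟨⊥, bot_le, by
        rw [card_bot, rp, Nat.factorization_eq_zero_of_not_dvd hMp, pow_zero]⟩
    · obtain ⟨V, hVA, hV, hVc⟩ := exists_rp (r := t) A
      have hVM : V ≤ M := fun x hx =>
        hmemM x (not_dvd_of_rElem ht hp htp (RElem.of_mem hV hx))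
      refine ⟨V, le_inf hVM hVA, le_antisymm (card_le_rp hV hVM) ?_⟩
      rw [hVc]
      refine (rp_le_of_dvd (card_dvd_of_le le_top : Nat.card M ∣ Nat.card (⊤ : Subgroup G))).trans
        (le_of_eq ?_)
      rw [rp, rp, Subgroup.card_top, ← A.card_mul_index, hAidx,
        Nat.factorization_mul Nat.card_pos.ne' h.pos.1.ne', Finsupp.add_apply,
        Nat.factorization_eq_zero_of_not_dvd (fun hd => htp (huniq ht hd)), add_zero]
  haveI hAn : A.Normal := by
    refine ⟨fun a ha g => ?_⟩
    have hu' : g * u * g⁻¹ ∈ A :=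
      hMA (hM.conj_mem u (hmemM u (not_dvd_of_rElem hq hp hqp hu)) g)
    rw [← hAeq _ hu' fun hh => huc (conj_mem_center_iff.mp hh)]
    refine conj_mem_Cx_conj ?_
    rw [hAeq u huA huc]; exact ha
  have hmn : ∀ x : G, x ∉ A → cs x = m * n := by
    intro x hx
    have hxc : x ∉ center G := fun hh => hx (hZA hh)
    refine (h.cases hxc).resolve_left fun hxm => hx ?_
    obtain ⟨Q', -, hQ'⟩ := GroupBasics.exists_sylow_le (p := q) (H := centralizer ({x} : Set G))
      (Q := ⊥) (show ¬ q ∣ cs x from hxm ▸ h.not_dvd_m hq hqn) IsPGroup.of_bot bot_le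
    obtain ⟨c, hc⟩ := exists_conj_mem_sylow hu Q'
    rw [← hAeq _ (hAn.conj_mem u huA c) fun hh => huc (conj_mem_center_iff.mp hh)]
    exact comm_symm (hQ' hc)
  have hM1 : (A : Set G) = {x : G | cs x = 1 ∨ cs x = m} := by
    ext x
    constructor
    · intro hx
      by_cases hxc : x ∈ center G
      · exact Or.inl (cs_eq_one_iff.mpr hxc)
      · exact Or.inr (by rw [cs, hAeq x hx hxc]; exact hym)
    · rintro (hx | hx)
      · exact hZA (cs_eq_one_iff.mp hx)
      · by_contra hxA
        exact h.pos.2.2.1 (hx.symm.trans (hmn x hxA))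
  -- a fixed point in the Sylow subgroups
  have hfix : ∀ P : Sylow p G, ∃ z ∈ A ⊓ (P : Subgroup G), z ∉ center G ∧ z ^ p ∈ center G ∧
      ∀ g ∈ (P : Subgroup G), ⁅z, g⁆ ∈ center G := by
    intro P
    refine exists_fixed_mod P.isPGroup' inf_le_right (fun g hg => ?_) fun hle => ?_
    · rw [mem_normalizer_iff]
      intro a
      rw [mem_inf, mem_inf]
      refine and_congr ⟨fun ha => hAn.conj_mem a ha g, fun ha => ?_⟩
        (mem_normalizer_iff.mp (le_normalizer hg) a)
      have := hAn.conj_mem _ ha g⁻¹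
      rwa [show g⁻¹ * (g * a * g⁻¹) * g⁻¹⁻¹ = a by group] at this
    · obtain ⟨c, hc⟩ := exists_conj_mem_sylow hw P
      exact hwc (conj_mem_center_iff.mp (hle (mem_inf.mpr ⟨hAn.conj_mem w hwA c, hc⟩)))
  have hsup : ∀ P : Sylow p G, A ⊔ (P : Subgroup G) = ⊤ := fun P => by
    refine index_eq_one.mp (Nat.eq_one_of_dvd_coprimes ?_ (index_dvd_of_le le_sup_left)
      (index_dvd_of_le le_sup_right))
    rw [hAidx, he]
    exact (hp.coprime_iff_not_dvd.mpr P.not_dvd_index).pow_left _
  -- `m = p`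
  let π : G →* G ⧸ A := QuotientGroup.mk' A
  have hπP : ∀ (P : Sylow p G) (j : G ⧸ A), ∃ g ∈ (P : Subgroup G), π g = j := by
    intro P j
    obtain ⟨x, rfl⟩ := QuotientGroup.mk'_surjective A j
    obtain ⟨a, ha, g, hg, rfl⟩ := mem_sup_of_normal_left.mp (hsup P ▸ mem_top x)
    exact ⟨g, hg, by rw [map_mul, show π a = 1 from (QuotientGroup.eq_one_iff a).mpr ha, one_mul]⟩
  obtain ⟨P1⟩ : Nonempty (Sylow p G) := inferInstance
  obtain ⟨z, hz, hzc, hzp, hzfix⟩ := hfix P1
  obtain ⟨hzA, hzP⟩ := mem_inf.mp hz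
  have hexp : ∀ j : G ⧸ A, j ^ p = 1 := by
    intro j
    obtain ⟨g, hg, rfl⟩ := hπP P1 j
    rw [← map_pow]
    refine (QuotientGroup.eq_one_iff _).mpr ((hAeq z hzA hzc).le (mem_of_commute ?_))
    refine (commutatorElement_eq_one_iff_commute.mp ?_).symm
    rw [TwoSizes69.comm_pow_right (hzfix g hg), ← TwoSizes69.comm_pow_left (hzfix g hg),
      commutatorElement_eq_one_iff_commute]
    exact (mem_center_iff.mp hzp g).symm
  have hab : ∀ i j : G ⧸ A, i * j = j * i := by
    intro i j
    obtain ⟨g, hg, rfl⟩ := hπP P1 i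
    obtain ⟨k, hk, rfl⟩ := hπP P1 j
    rw [← commutatorElement_eq_one_iff_mul_comm, ← map_commutatorElement]
    refine (QuotientGroup.eq_one_iff _).mpr ((hAeq z hzA hzc).le (mem_of_commute ?_))
    refine (commutatorElement_eq_one_iff_commute.mp ?_).symm
    have h1 := hzfix g hg
    have h2 := hzfix k hk
    have h3 := hzfix g⁻¹ (inv_mem hg)
    have h4 := hzfix k⁻¹ (inv_mem hk)
    rw [commutatorElement_def g k, TwoSizes69.comm_mul_right_central h4,
      TwoSizes69.comm_mul_right_central h3, TwoSizes69.comm_mul_right_central h2,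
      TwoSizes69.comm_inv_right_central h1, TwoSizes69.comm_inv_right_central h2,
      mul_assoc ⁅z, g⁆, mem_center_iff.mp (inv_mem h1) ⁅z, k⁆, ← mul_assoc, mul_inv_cancel, one_mul,
      mul_inv_cancel]
  have hAne : A ≠ ⊤ := fun e' => h.not_center_of_m hym (Cx_eq_top_iff.mp e')
  letI : CommGroup A := { (inferInstance : Group A) with
    mul_comm := fun a b => Subtype.ext (hAc _ a.2 _ b.2) }
  let φ : G ⧸ A →* MulAut A := QuotientGroup.lift A MulAut.conjNormal (fun a ha => by
    refine MonoidHom.mem_ker.mpr (MulEquiv.ext fun b => Subtype.ext ?_)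
    rw [MulAut.conjNormal_apply, MulAut.one_apply]
    exact mul_inv_eq_iff_eq_mul.mpr (hAc a ha b b.2))
  have hmp : m = p := by
    obtain ⟨x0, hx0⟩ : ∃ x0 : G, x0 ∉ A := by
      by_contra hne
      push Not at hne
      exact hAne (eq_top_iff.mpr fun x _ => hne x)
    have hj0 : π x0 ≠ 1 := fun e' => hx0 ((QuotientGroup.eq_one_iff x0).mp e')
    by_cases hall : ∀ j : G ⧸ A, j ∈ zpowers (π x0)
    · have h1 : Nat.card (G ⧸ A) = p := by
        rw [← orderOf_eq_prime (hexp (π x0)) hj0, ← Nat.card_zpowers,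
          show zpowers (π x0) = ⊤ from eq_top_iff.mpr (fun j _ => hall j), Subgroup.card_top]
      rw [← index_eq_card, hAidx] at h1
      exact h1
    · push Not at hall
      obtain ⟨j, hj⟩ := hall
      exfalso
      have hcop : (orderOf (⟨u, huA⟩ : A)).Coprime p := by
        rw [Subgroup.orderOf_mk]
        exact (hp.coprime_iff_not_dvd.mpr (not_dvd_of_rElem hq hp hqp hu)).symm
      refine huc (?_ : u ∈ center G)
      have := mem_of_rank_two φ ((center G).comap A.subtype) (hab (π x0) j) (hexp _) (hexp _) hj0 hj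
        (fun a b hne w hw => ?_) ⟨u, huA⟩ hcop
      · exact this
      · by_contra hwc'
        obtain ⟨x, hx⟩ := QuotientGroup.mk'_surjective A (π x0 ^ a * j ^ b)
        rw [← hx] at hw hne
        refine hne ((QuotientGroup.eq_one_iff x).mpr
          ((hAeq w w.2 hwc').le (mem_of_commute (mul_inv_eq_iff_eq_mul.mp ?_))))
        have := congrArg Subtype.val hw
        exact this
  subst hmp
  -- cardinalities
  have hcenA : ∀ {g : G}, g ∉ A → centralizer ({g} : Set G) ⊓ A = center G := fun {g} hg => by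
    refine le_antisymm (fun a ha => ?_) (le_inf (center_le_Cx g) hZA)
    by_contra hac
    exact hg ((hAeq a (mem_inf.mp ha).2 hac).le (comm_symm (mem_inf.mp ha).1))
  obtain ⟨g, hgP, hgA⟩ : ∃ g ∈ (P1 : Subgroup G), g ∉ A := by
    by_contra hne
    push Not at hne
    exact hAne (by rw [← hsup P1, sup_eq_left.mpr hne])
  have hcardA : Nat.card A = m * n * Nat.card (center G) := by
    have h1 : A.relIndex (centralizer ({g} : Set G)) = m := by
      have hd : A.relIndex (centralizer ({g} : Set G)) ∣ A.index := relIndex_dvd_index_of_normal _ _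
      rw [hAidx] at hd
      refine ((Nat.dvd_prime hp).mp hd).resolve_left fun e' => hgA ?_
      exact relIndex_eq_one.mp e' (mem_Cx_self g)
    have h2 := relIndex_mul_relIndex ⊥ (centralizer ({g} : Set G) ⊓ A) (centralizer ({g} : Set G))
      bot_le inf_le_left
    rw [inf_comm (centralizer ({g} : Set G)) A, inf_relIndex_right, h1, inf_comm A, hcenA hgA,
      relIndex_bot_left, relIndex_bot_left] at h2
    have h3 := (centralizer ({g} : Set G)).card_mul_index
    rw [show (centralizer ({g} : Set G)).index = m * n from hmn g hgA, ← h2, ← A.card_mul_index,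
      hAidx] at h3
    exact Nat.eq_of_mul_eq_mul_right hp.pos (by rw [← h3]; ring)
  have hcardM : Nat.card M = n * Nat.card (M ⊓ center G : Subgroup G) := by
    set a := Nat.card (M ⊓ center G : Subgroup G) with ha
    obtain ⟨i, -, hi⟩ : ∃ i ≤ sP, M.relIndex (center G) = m ^ i := (Nat.dvd_prime_pow hp).mp
      (hsP ▸ hMidx ▸ relIndex_dvd_index_of_normal M (center G))
    have hZ : Nat.card (center G) = a * m ^ i := by
      rw [← hi, ← inf_relIndex_right, ha, ← relIndex_bot_left, ← relIndex_bot_left,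
        relIndex_mul_relIndex ⊥ (M ⊓ center G) (center G) bot_le inf_le_right]
    have hG : Nat.card M * m ^ sP = n * a * (m ^ i * m * m) := by
      have h1 := M.card_mul_index
      rw [hMidx, hsP, ← A.card_mul_index, hAidx, hcardA, hZ] at h1
      rw [h1]; ring
    rw [show m ^ i * m * m = m ^ (i + 2) by ring] at hG
    have hcM : ∀ k, (Nat.card M).Coprime (m ^ k) := fun k =>
      ((hp.coprime_iff_not_dvd.mpr hMp).symm).pow_right k
    have hca : ∀ k, (n * a).Coprime (m ^ k) := fun k => by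
      refine Nat.Coprime.pow_right k (Nat.Coprime.mul_left (hp.coprime_iff_not_dvd.mpr hpn).symm ?_)
      exact (hp.coprime_iff_not_dvd.mpr fun hd => hMp (hd.trans (card_dvd_of_le inf_le_left))).symm
    exact Nat.dvd_antisymm ((hcM (i + 2)).dvd_of_dvd_mul_right (hG ▸ dvd_mul_right _ _))
      ((hca sP).dvd_of_dvd_mul_right (hG.symm ▸ dvd_mul_right _ _))
  refine ⟨hp, ?_, ⟨A, hAn, hM1, hAidx, ⟨⟨fun a b => Subtype.ext (hAc _ a.2 _ b.2)⟩⟩⟩,
    ⟨M, hM, ?_, sP, by rw [hMidx, hsP]⟩, fun P => ?_⟩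
  · -- fixed points of `g` on `M`
    have hgM : zpowers g ≤ normalizer (M : Set G) := by
      rw [normalizer_eq_top]; exact le_top
    have hgp : IsPGroup m (zpowers g) :=
      TwoSizes69.isPGroup_zpowers (RElem.of_mem P1.isPGroup' hgP)
    letI : MulAction (zpowers g) M :=
      { smul := fun x a => ⟨(x : G) * a * (x : G)⁻¹, hM.conj_mem a a.2 x⟩
        one_smul := fun a => Subtype.ext (by show (1 : G) * a * (1 : G)⁻¹ = a; group)
        mul_smul := fun x x' a => Subtype.ext (by
          show ((x : G) * x') * a * ((x : G) * x')⁻¹ = (x : G) * ((x' : G) * a * (x' : G)⁻¹) * (x : G)⁻¹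
          group) }
    have hmod := hgp.card_modEq_card_fixedPoints M
    have hfx : Nat.card (MulAction.fixedPoints (zpowers g) M) = Nat.card (M ⊓ center G : Subgroup G) := by
      refine Nat.card_congr
        { toFun := fun a => ⟨(a.1 : G), mem_inf.mpr ⟨a.1.2, ?_⟩⟩
          invFun := fun a => ⟨⟨a.1, (mem_inf.mp a.2).1⟩, fun x => Subtype.ext ?_⟩
          left_inv := fun _ => rfl
          right_inv := fun _ => rfl }
      · have h1 : g * (a.1 : G) * g⁻¹ = a.1 := congrArg Subtype.val (a.2 ⟨g, mem_zpowers g⟩)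
        refine (hcenA hgA).le (mem_inf.mpr ⟨mem_of_commute ?_, hMA a.1.2⟩)
        exact (mul_inv_eq_iff_eq_mul.mp h1).symm
      · show (x : G) * a.1 * (x : G)⁻¹ = a.1
        rw [mem_center_iff.mp (mem_inf.mp a.2).2 x, mul_inv_cancel_right]
    rw [hfx, hcardM] at hmod
    have hcop : m.Coprime (Nat.card (M ⊓ center G : Subgroup G)) :=
      hp.coprime_iff_not_dvd.mpr fun hd => hMp (hd.trans (card_dvd_of_le inf_le_left))
    have h2 : n ≡ 1 [MOD m] := by
      refine Nat.ModEq.cancel_right_of_coprime (c := Nat.card (M ⊓ center G : Subgroup G)) ?_ ?_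
      · exact hcop.gcd_eq_one
      · rwa [one_mul]
    exact (Nat.modEq_iff_dvd' h.pos.2.1).mp h2.symm
  · exact (hp.coprime_iff_not_dvd.mpr hMp).symm
  · obtain ⟨z, hz, hzc, hzp, hzfix⟩ := hfix P
    obtain ⟨hzA, hzP⟩ := mem_inf.mp hz
    obtain ⟨g, hgP, hgA⟩ : ∃ g ∈ (P : Subgroup G), g ∉ A := by
      by_contra hne
      push Not at hne
      exact hAne (by rw [← hsup P, sup_eq_left.mpr hne])
    set U := A ⊓ (P : Subgroup G) with hU
    set c := ⁅z, g⁆ with hc
    have hcc : c ∈ center G := hzfix g hgP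
    have hUP : Nat.card (P : Subgroup G) = m * Nat.card U := by
      have h1 := relIndex_mul_relIndex ⊥ U (P : Subgroup G) bot_le inf_le_right
      rw [hU, inf_relIndex_right, ← relIndex_sup_left (K := A) (H := (P : Subgroup G)), hsup P,
        relIndex_top_right, hAidx, relIndex_bot_left, relIndex_bot_left] at h1
      rw [← h1, mul_comm]
    have hUZ : Nat.card U = m * Nat.card (Zr m G) := by
      have h1 : Nat.card (P : Subgroup G) = m * rp m A := by
        rw [sylow_card_eq_rp, rp, rp, Subgroup.card_top, ← A.card_mul_index, hAidx,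
          Nat.factorization_mul Nat.card_pos.ne' hp.ne_zero, Finsupp.add_apply, hp.factorization_self,
          pow_succ, mul_comm]
      have h2 : rp m A = m * rp m (center G) := by
        rw [rp, rp, hcardA, Nat.factorization_mul (mul_ne_zero hp.ne_zero h.pos.2.1.ne') Nat.card_pos.ne',
          Nat.factorization_mul hp.ne_zero h.pos.2.1.ne', Finsupp.add_apply, Finsupp.add_apply,
          hp.factorization_self, Nat.factorization_eq_zero_of_not_dvd hpn, add_zero, add_comm, pow_succ,
          mul_comm]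
      rw [card_Zr, ← h2]
      exact Nat.eq_of_mul_eq_mul_left hp.pos (hUP.symm.trans h1)
    set V := zpowers z ⊔ Zr m G with hV
    have hVU : V ≤ U := sup_le (zpowers_le.mpr hz) fun x hx =>
      mem_inf.mpr ⟨hZA hx.1, TwoSizes69.Zr_le_sylow P hx⟩
    have hVeq : V = U := by
      refine eq_of_le_of_card_ge hVU ?_
      have h1 := relIndex_mul_relIndex ⊥ (Zr m G) V bot_le le_sup_right
      have h2 := relIndex_mul_relIndex (Zr m G) V U le_sup_right hVU
      have h3 := relIndex_mul_relIndex ⊥ (Zr m G) U bot_le (le_sup_right.trans hVU)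
      rw [relIndex_bot_left, relIndex_bot_left] at h1 h3
      rw [hUZ, mul_comm m] at h3
      have h4 : (Zr m G).relIndex U = m := Nat.eq_of_mul_eq_mul_left Nat.card_pos h3
      rw [h4] at h2
      have h5 : (Zr m G).relIndex V = m := by
        refine ((Nat.dvd_prime hp).mp ⟨_, h2.symm⟩).resolve_left fun e' => hzc ?_
        exact (relIndex_eq_one.mp e' (mem_sup_left (mem_zpowers z) : z ∈ V)).1
      rw [hUZ, ← h1, h5, mul_comm]
    set T := zpowers g ⊔ V with hT
    have hTP : T = (P : Subgroup G) := by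
      refine eq_of_le_of_card_ge (sup_le (zpowers_le.mpr hgP) (hVU.trans inf_le_right)) ?_
      have h1 := relIndex_mul_relIndex ⊥ V T bot_le le_sup_right
      rw [relIndex_bot_left, relIndex_bot_left] at h1
      have h2 := relIndex_mul_relIndex V T (P : Subgroup G) le_sup_right
        (sup_le (zpowers_le.mpr hgP) (hVU.trans inf_le_right))
      have h3 := relIndex_mul_relIndex ⊥ V (P : Subgroup G) bot_le (hVU.trans inf_le_right)
      rw [relIndex_bot_left, relIndex_bot_left, hUP, hVeq, mul_comm m] at h3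
      have h4 : U.relIndex (P : Subgroup G) = m := Nat.eq_of_mul_eq_mul_left Nat.card_pos h3
      rw [hVeq, h4] at h2
      have h5 : V.relIndex T = m := by
        rw [hVeq]
        refine ((Nat.dvd_prime hp).mp ⟨_, h2.symm⟩).resolve_left fun e' => hgA ?_
        exact (mem_inf.mp (relIndex_eq_one.mp e' (mem_sup_left (mem_zpowers g) : g ∈ T))).1
      rw [hUP, ← h1, h5, hVeq, mul_comm]
    have hcent : ∀ x ∈ zpowers c, x ∈ center G := fun x hx => zpowers_le.mpr hcc hx
    have hgen : ∀ x : G, ⁅x, g⁆ ∈ zpowers c → ⁅x, z⁆ ∈ zpowers c → T ≤ commSub x (zpowers c) hcent :=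
      fun x h1 h2 => sup_le (zpowers_le.mpr h1) (sup_le (zpowers_le.mpr h2) fun y hy => by
        show ⁅x, y⁆ ∈ zpowers c
        rw [commutatorElement_eq_one_iff_mul_comm.mpr (mem_center_iff.mp hy.1 x)]
        exact one_mem _)
    have hgz : ⁅g, z⁆ ∈ zpowers c := by
      rw [← commutatorElement_inv]; exact inv_mem (mem_zpowers c)
    have hgT := hgen g (by rw [commutatorElement_self]; exact one_mem _) hgz
    have hzT := hgen z (mem_zpowers c) (by rw [commutatorElement_self]; exact one_mem _)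
    have hall : ∀ x ∈ T, ∀ w ∈ T, ⁅x, w⁆ ∈ zpowers c := fun x hx w hw =>
      hgen x (by rw [← commutatorElement_inv]; exact inv_mem (hgT hx))
        (by rw [← commutatorElement_inv]; exact inv_mem (hzT hx)) hw
    have hcp : c ^ m = 1 := by
      rw [hc, ← TwoSizes69.comm_pow_left hcc, commutatorElement_eq_one_iff_mul_comm]
      exact (mem_center_iff.mp hzp g).symm
    have hc1 : c ≠ 1 := fun e' =>
      hgA ((hAeq z hzA hzc).le (mem_of_commute (commutatorElement_eq_one_iff_commute.mp e').symm))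
    have heq : ⁅(P : Subgroup G), (P : Subgroup G)⁆ = zpowers c := by
      refine le_antisymm (commutator_le.mpr fun x hx w hw => ?_)
        (zpowers_le.mpr (commutator_mem_commutator hzP hgP))
      exact hall x (hTP.symm ▸ hx) w (hTP.symm ▸ hw)
    rw [← card_map_of_injective (P : Subgroup G).subtype_injective, map_subtype_commutator, heq,
      Nat.card_zpowers, orderOf_eq_prime hcp hc1]

end Hyp

end CfsgLib.CaminaRankTwo69
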